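import Cfsg.Agent.H12.SUFour.HalvesBasic
import Cfsg.Agent.H12.SUFour.Orth.Plus
import Cfsg.Agent.H58.SUSmall.Halves

/-!
Stabilisers of two totally isotropic planes are maximal in the special unitary group of dimension four.
-/

set_option autoImplicit false
open Cfsg

namespace Cfsg.Agent.H12.SUFour.Halves

open scoped MatrixGroups Matrix
open Matrix Cfsg.Agent.H95 Cfsg.Agent.H12.SUFour.Orth
open Cfsg.Agent.Symplectic hiding HPolar HShort uh_mem_sl exists_not_fixed mul_conj_conj ut_of_short_same ut_of_indep ut_of_dep ut_of_mixed exists_short_move' utIn_of_one exists_hpolar_swap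
open Cfsg.Agent.H58.SUSmall.Polar (uh_mem_sl exists_not_fixed)

variable {ι : Type} [Fintype ι] [DecidableEq ι] {F : Type*} [Field F]
  {σ : F ≃+* F} {f : (ι → F) → (ι → F) → F}
  {W W' : Submodule F (ι → F)} {M : Subgroup (GL ι F)}

/-- `M` contains the stabiliser of both planes. -/
def Keep (f : (ι → F) → (ι → F) → F) (W W' : Submodule F (ι → F)) (M : Subgroup (GL ι F)) : Prop :=
  ∀ g : GL ι F, g ∈ isoGrp f → g ∈ Geo.specialLinear ι F → (∀ x ∈ W, (g : Matrix ι ι F) *ᵥ x ∈ W) →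
    (∀ x ∈ W', (g : Matrix ι ι F) *ᵥ x ∈ W') → g ∈ M

theorem Keep.symm (h : Keep f W W' M) : Keep f W' W M := fun g a b c d => h g a b d c

variable (hf : Geo.IsUnitaryForm σ f) (P : HPol f W W') (hK : Keep f W W' M)
include hf P hK

theorem short : Short hf W W' M := by
  intro u hu v hv huv c
  have hO : OrthIso hf u v := ⟨P.ti₁ u hu u hu, P.ti₂ v hv v hv, huv⟩
  refine hK _ (uh_mem_iso hf u v c) (uh_mem_sl hf u v c) (fun x hx => ?_) fun x hx => ?_ <;>
    rw [uh_mulVec hf hO]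
  · rw [P.ti₁ x hx u hu, mul_zero, zero_smul, add_zero]
    exact W.sub_mem hx (W.smul_mem _ hu)
  · rw [P.ti₂ x hx v hv, mul_zero, zero_smul, sub_zero]
    exact W'.add_mem hx (W'.smul_mem _ hv)

theorem el_short {u v : ι → F} (hu : u ∈ W) (hv : v ∈ W') (huv : f u v = 0) (c : F) :
    El σ f M u v 0 c 0 := by
  refine ⟨_, short hf P hK u hu v hv huv c, fun x => ?_⟩
  rw [uh_mulVec hf ⟨P.ti₁ u hu u hu, P.ti₂ v hv v hv, huv⟩]
  module

/-- Scaling one hyperbolic pair by a real number. -/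
theorem exists_scale {e d : ι → F} (he : e ∈ W) (hd : d ∈ W') (hed : f e d = 1) {m : F} (hm : σ m = m) (hm0 : m ≠ 0) :
    ∃ k ∈ M, k ∈ isoGrp f ∧
      ∀ x, (k : Matrix ι ι F) *ᵥ x = x + ((m - 1) * f x d) • e + ((m⁻¹ - 1) * f x e) • d := by
  have hee := P.ti₁ e he e he
  have hdd := P.ti₂ d hd d hd
  have hde : f d e = 1 := by rw [← u_conj hf, hed, map_one]
  have hdv : ∀ a x : ι → F, dv f a ⬝ᵥ x = f x a := fun a x => u_dot hf a x
  let Q : F → Matrix ι ι F := fun a => 1 + vecMulVec e ((a - 1) • dv f d) + vecMulVec d ((a⁻¹ - 1) • dv f e)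
  have hQv : ∀ a x, Q a *ᵥ x = x + ((a - 1) * f x d) • e + ((a⁻¹ - 1) * f x e) • d := fun a x => by
    simp only [Q, add_mulVec, one_mulVec, vecMulVec_mulVec, op_smul_eq_smul, smul_dotProduct, hdv, smul_eq_mul]
  have hQQ : ∀ a : F, a ≠ 0 → Q a * Q a⁻¹ = 1 := fun a ha => mat_ext fun x => by
    simp only [← mulVec_mulVec, hQv, one_mulVec, u_add_left hf, u_smul_left hf, hee, hdd, hed, hde, inv_inv]
    match_scalars <;> field_simp <;> ring
  let k : GL ι F := ⟨Q m, Q m⁻¹, hQQ m hm0, by simpa using hQQ m⁻¹ (inv_ne_zero hm0)⟩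
  have hki : k ∈ isoGrp f := by
    rw [mem_isoGrp]
    intro x y
    show f (Q m *ᵥ x) (Q m *ᵥ y) = f x y
    rw [hQv, hQv]
    simp only [u_add_left hf, u_add_right hf, u_smul_left hf, u_smul_right hf, hee, hdd, hed, hde, map_mul,
      map_sub, map_inv₀, map_one, hm, u_conj hf]
    field_simp
    ring
  refine ⟨k, hK k hki ?_ (fun x hx => ?_) fun x hx => ?_, hki, fun x => hQv m x⟩
  · rw [mem_specialLinear_iff]
    show (Q m).det = 1
    simp only [Q]
    rw [Orth.det_rank_two, smul_dotProduct, smul_dotProduct, smul_dotProduct, smul_dotProduct]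
    simp only [hdv, smul_eq_mul, hee, hdd, hed, hde]
    field_simp
    ring
  · show Q m *ᵥ x ∈ W
    rw [hQv, P.ti₁ x hx e he, mul_zero, zero_smul, add_zero]
    exact W.add_mem hx (W.smul_mem _ he)
  · show Q m *ᵥ x ∈ W'
    rw [hQv, P.ti₂ x hx d hd, mul_zero, zero_smul, add_zero]
    exact W'.add_mem hx (W'.smul_mem _ hd)

omit hf hK in
/-- Two independent vectors span a plane. -/
theorem span_two {x y : ι → F} (hx : x ∈ W) (hy : y ∈ W)
    (hind : ∀ r s : F, r • x + s • y = 0 → r = 0 ∧ s = 0) {w : ι → F} (hw : w ∈ W) :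
    ∃ r s : F, w = r • x + s • y := by
  have hli : LinearIndependent F ![(⟨x, hx⟩ : W), ⟨y, hy⟩] := by
    rw [LinearIndependent.pair_iff]
    intro r s h
    exact hind r s (congrArg Subtype.val h)
  have htop := hli.span_eq_top_of_card_eq_finrank (by simp [P.dim₁])
  have hw' : (⟨w, hw⟩ : W) ∈ Submodule.span F (Set.range ![(⟨x, hx⟩ : W), ⟨y, hy⟩]) := htop ▸ Submodule.mem_top
  obtain ⟨c, hc⟩ := (Submodule.mem_span_range_iff_exists_fun F).1 hw'
  refine ⟨c 0, c 1, ?_⟩
  have := congrArg Subtype.val hc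
  simpa [Fin.sum_univ_two] using this.symm

omit hK in
/-- A vector of one plane pairing with a given one of the other. -/
theorem exists_pair {q : ι → F} (hq : q ∈ W') (hq0 : q ≠ 0) : ∃ e ∈ W, f e q = 1 := by
  obtain ⟨⟨y, hy⟩, -⟩ := hf.nondegenerate q hq0
  obtain ⟨a, ha, b, hb, rfl⟩ := P.exists_split y
  rw [u_add_left hf, P.ti₂ b hb q hq, add_zero] at hy
  exact ⟨(f a q)⁻¹ • a, W.smul_mem _ ha, by rw [u_smul_left hf, inv_mul_cancel₀ hy]⟩

omit hK in
/-- A non-zero vector cannot be orthogonal to its opposite plane. -/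
theorem exists_opp {e : ι → F} (he : e ∈ W) (he0 : e ≠ 0) : ∃ w ∈ W', f e w ≠ 0 := by
  obtain ⟨-, y, hy⟩ := hf.nondegenerate e he0
  obtain ⟨a, ha, b, hb, rfl⟩ := P.exists_split y
  rw [u_add_right hf, P.ti₁ e he a ha, zero_add] at hy
  exact ⟨b, hb, hy⟩

/-- A transvection in one of the planes. -/
def Side (hf : Geo.IsUnitaryForm σ f) (W W' : Submodule F (ι → F)) (M : Subgroup (GL ι F)) : Prop :=
  (∃ y ∈ W, y ≠ 0 ∧ ∃ l : F, l ≠ 0 ∧ σ l = -l ∧ ut hf y l ∈ M) ∨
    ∃ y ∈ W', y ≠ 0 ∧ ∃ l : F, l ≠ 0 ∧ σ l = -l ∧ ut hf y l ∈ M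

variable {m : F} (hm : σ m = m) (hm0 : m ≠ 0) (hm1 : m * m ≠ 1)
include hm hm0 hm1

/-- Separating the two ends of a short root subgroup. -/
theorem side_sep {p q : ι → F} (hp : p ∈ W) (hp0 : p ≠ 0) (hq : q ∈ W') (hq0 : q ≠ 0) (hpq : f p q = 0) {a b c : F}
    (ha : σ a = -a) (hc : σ c = -c) (hne : a ≠ 0 ∨ c ≠ 0) (h : El σ f M p q a b c) : Side hf W W' M := by
  have hpp := P.ti₁ p hp p hp
  have hqq := P.ti₂ q hq q hq
  have h' : El σ f M p q a 0 c :=
    (El.sub hf hpp hqq hpq h (el_short hf P hK hp hq hpq b)).congr (sub_zero a) (sub_self b) (sub_zero c)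
  by_cases hc0 : c = 0
  · subst hc0
    exact Or.inl ⟨p, hp, hp0, a, hne.resolve_right (not_not.2 rfl), ha, El.to_ut hf hpp h'⟩
  obtain ⟨e, he, heq⟩ := exists_pair hf P hq hq0
  obtain ⟨k, hk, hki, hkx⟩ := exists_scale hf P hK he hq heq hm hm0
  have e1 : (k : Matrix ι ι F) *ᵥ p = (1 : F) • p := by
    rw [hkx, hpq, P.ti₁ p hp e he]; module
  have e2 : (k : Matrix ι ι F) *ᵥ q = m⁻¹ • q := by
    have hqe : f q e = 1 := by rw [← u_conj hf, heq, map_one]
    rw [hkx, hqq, hqe]; module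
  have h2 := El.conj hf h' hk hki
  rw [e1, e2] at h2
  have h3 := El.sub hf hpp hqq hpq (El.smul hf h2) h'
  refine Or.inr ⟨q, hq, hq0, c * (m⁻¹ * m⁻¹ - 1), mul_ne_zero hc0 (sub_ne_zero.2 fun e => hm1 ?_), ?_,
    El.to_ut' hf hqq (h3.congr (by rw [map_one]; ring) (by ring) (by rw [map_inv₀, hm]; ring))⟩
  · rw [← mul_inv, inv_eq_one] at e; exact e
  · rw [map_mul, map_sub, map_mul, map_inv₀, map_one, hm, hc]; ring

/-- A plane meeting one of the two planes. -/
theorem side_point {p q y₁ y₂ : ι → F} (hp : p ∈ W) (hp0 : p ≠ 0) (hqq : f q q = 0) (hpq : f p q = 0) {a b e h : F}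
    (h1 : y₁ = a • p + b • q) (h2 : y₂ = e • p + h • q) (hdet : a * h - b * e ≠ 0) (hW : y₁ ∉ W) (hW' : y₁ ∉ W')
    (hel : ∀ c, El σ f M y₁ y₂ 0 c 0) : Side hf W W' M := by
  have hpp := P.ti₁ p hp p hp
  obtain ⟨u, hu, v, hv, huv⟩ := P.exists_split q
  have hpu := P.ti₁ p hp u hu
  have hpv : f p v = 0 := by rw [← huv, u_add_right hf, hpu, zero_add] at hpq; exact hpq
  have hv0 : v ≠ 0 := fun e' => hW (by
    rw [h1, ← huv, e', add_zero]; exact W.add_mem (W.smul_mem _ hp) (W.smul_mem _ hu))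
  have hvv := P.ti₂ v hv v hv
  have hchg : ∀ (q' : ι → F) (a' b' e' h' : F), y₁ = a' • p + b' • q' → y₂ = e' • p + h' • q' → ∀ c : F,
      El σ f M p q' (c * σ a' * e' - σ c * σ e' * a') (c * σ a' * h' - σ c * σ e' * b')
        (c * σ b' * h' - σ c * σ h' * b') := by
    intro q' a' b' e' h' k1 k2 c
    obtain ⟨k, hk, hkx⟩ := hel c
    refine ⟨k, hk, fun x => ?_⟩
    rw [hkx, k1, k2]
    simp only [u_add_right hf, u_smul_right hf, map_sub, map_mul, u_inv hf]
    match_scalars <;> ring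
  obtain ⟨w, hw⟩ := exists_not_fixed hf
  by_cases hdep : ∃ s : F, u = s • p
  · obtain ⟨s, rfl⟩ := hdep
    have k1 : y₁ = (a + b * s) • p + b • v := by rw [h1, ← huv]; module
    have k2 : y₂ = (e + h * s) • p + h • v := by rw [h2, ← huv]; module
    set a' := a + b * s
    set e' := e + h * s
    have hdet' : a' * h - b * e' ≠ 0 := fun h0 => hdet (by linear_combination h0)
    have hb : b ≠ 0 := fun h0 => hW (by rw [k1, h0, zero_smul, add_zero]; exact W.smul_mem _ hp)
    have ha : a' ≠ 0 := fun h0 => hW' (by rw [k1, h0, zero_smul, zero_add]; exact W'.smul_mem _ hv)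
    by_contra hS
    have hbad : ∀ c : F, c * σ a' * e' - σ c * σ e' * a' = 0 ∧ c * σ b * h - σ c * σ h * b = 0 := fun c => by
      by_contra hne
      refine hS (side_sep hf P hK hm hm0 hm1 hp hp0 hv hv0 hpv ?_ ?_ ?_ (hchg v a' b e' h k1 k2 c))
      · simp only [map_sub, map_mul, u_inv hf]; ring
      · simp only [map_sub, map_mul, u_inv hf]; ring
      · exact not_and_or.1 hne
    have hX : ∀ X : F, (∀ c, c * X - σ c * σ X = 0) → X = 0 := fun X hX => by
      by_contra hX0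
      have e1 := hX 1
      have e2 := hX w
      rw [map_one, one_mul, one_mul] at e1
      have : (w - σ w) * X = 0 := by linear_combination e2 - σ w * e1
      exact hX0 ((mul_eq_zero.1 this).resolve_left (sub_ne_zero.2 (Ne.symm hw)))
    have x1 := hX (σ a' * e') fun c => by rw [map_mul, u_inv hf]; linear_combination (hbad c).1
    have x2 := hX (σ b * h) fun c => by rw [map_mul, u_inv hf]; linear_combination (hbad c).2
    have he := (mul_eq_zero.1 x1).resolve_left ((map_ne_zero_iff σ σ.injective).2 ha)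
    have hh := (mul_eq_zero.1 x2).resolve_left ((map_ne_zero_iff σ σ.injective).2 hb)
    exact hdet' (by rw [he, hh]; ring)
  push Not at hdep
  have hpu' : ∀ r s : F, r • p + s • u = 0 → r = 0 ∧ s = 0 := fun r s h0 => by
    by_cases hs : s = 0
    · subst hs
      rw [zero_smul, add_zero, smul_eq_zero] at h0
      exact ⟨h0.resolve_right hp0, rfl⟩
    · refine absurd ?_ (hdep (-r / s))
      have := congrArg (fun x => s⁻¹ • x) h0
      simp only [smul_add, smul_smul, inv_mul_cancel₀ hs, one_smul, smul_zero] at this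
      rw [eq_neg_of_add_eq_zero_right this, ← neg_smul]
      congr 1
      ring
  set t := f u v with ht
  have ht0 : t ≠ 0 := fun h0 => by
    obtain ⟨w', hw', hne⟩ := exists_opp hf P.symm hv hv0
    obtain ⟨r, s, rfl⟩ := span_two P hp hu hpu' hw'
    refine hne ?_
    rw [u_add_right hf, u_smul_right hf, u_smul_right hf, u_symm_zero hf hpv,
      u_symm_zero hf (ht.symm.trans h0)]
    ring
  set α := σ a * e - σ e * a
  set β := σ a * h - σ e * b
  set ξ := σ b * h - σ h * b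
  have hA : El σ f M p q α β ξ := by simpa [α, β, ξ] using hchg q a b e h h1 h2 1
  have hξ : σ ξ = -ξ := by simp only [ξ, map_sub, map_mul, u_inv hf]; ring
  have hα : σ α = -α := by simp only [α, map_sub, map_mul, u_inv hf]; ring
  -- moving q along p
  have hmove : ∀ {a₀ b₀ c₀ : F} (s : F), σ c₀ = -c₀ → El σ f M p q a₀ b₀ c₀ →
      El σ f M p q (a₀ - σ b₀ * σ s + s * b₀ + c₀ * (s * σ s)) (b₀ + c₀ * σ s) c₀ := fun {a₀ b₀ c₀} s hc₀ hE => by
    set c' := -(σ s / σ t) with hc'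
    have hk := short hf P hK p hp v hv hpv c'
    have hO : OrthIso hf p v := ⟨hpp, hvv, hpv⟩
    have e1 : (uh hf p v c' : Matrix ι ι F) *ᵥ p = p := by
      rw [uh_mulVec hf hO, hpp, hpv]; module
    have e2 : (uh hf p v c' : Matrix ι ι F) *ᵥ q = q + s • p := by
      have hqp : f q p = 0 := u_symm_zero hf hpq
      have hqv : f q v = t := by rw [← huv, u_add_left hf, hvv, add_zero]
      rw [uh_mulVec hf hO, hqp, hqv, hc', map_neg, map_div₀, u_inv hf, u_inv hf]
      match_scalars <;> field_simp <;> ring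
    have hE' := El.conj hf hE hk (uh_mem_iso hf _ _ _)
    rw [e1, e2] at hE'
    exact El.shift hf hc₀ hE'
  by_cases hξ0 : ξ = 0
  swap
  · obtain ⟨z, hz⟩ := exists_trace_eq hf (s := 1) (map_one σ)
    have hD : ∀ s, El σ f M p q (-σ β * σ s + s * β + ξ * (s * σ s)) (ξ * σ s) 0 := fun s =>
      (El.sub hf hpp hqq hpq (hmove s hξ hA) hA).congr (by ring) (by ring) (sub_self ξ)
    have h3 := El.sub hf hpp hqq hpq (hmove 1 (by rw [map_zero, neg_zero]) (hD z)) (hD z)
    refine Or.inl ⟨p, hp, hp0, ξ, hξ0, hξ, El.to_ut hf hpp (h3.congr ?_ (by ring) (by ring))⟩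
    simp only [map_mul, map_one, u_inv hf, hξ]
    linear_combination ξ * hz
  by_cases hβ0 : β = 0
  · have hα0 : α ≠ 0 := fun hα0 => by
      have k1 : σ a * (a * h - b * e) = 0 := by
        simp only [α, β] at hα0 hβ0
        linear_combination a * hβ0 - b * hα0
      have k2 : σ b * (a * h - b * e) = 0 := by
        have h2' := congrArg σ hβ0
        simp only [β, ξ, map_sub, map_mul, u_inv hf, map_zero] at h2' hξ0
        linear_combination a * hξ0 + b * h2'
      have ha : a = 0 := (map_eq_zero_iff σ σ.injective).1 ((mul_eq_zero.1 k1).resolve_right hdet)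
      have hb : b = 0 := (map_eq_zero_iff σ σ.injective).1 ((mul_eq_zero.1 k2).resolve_right hdet)
      exact hdet (by rw [ha, hb]; ring)
    rw [hξ0, hβ0] at hA
    exact Or.inl ⟨p, hp, hp0, α, hα0, hα, El.to_ut hf hpp hA⟩
  set s := w / β with hs
  have h3 := El.sub hf hpp hqq hpq (hmove s hξ hA) hA
  refine Or.inl ⟨p, hp, hp0, w - σ w, sub_ne_zero.2 (Ne.symm hw), by rw [map_sub, u_inv hf, neg_sub],
    El.to_ut hf hpp (h3.congr ?_ (by rw [hξ0]; ring) (sub_self ξ))⟩
  have e1 : s * β = w := div_mul_cancel₀ w hβ0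
  have e2 : σ s * σ β = σ w := by rw [← map_mul, e1]
  rw [hξ0]
  linear_combination e1 - e2

/-- A plane meeting neither of the two planes. -/
theorem side_graph {y₁ y₂ : ι → F} (h11 : f y₁ y₁ = 0) (h22 : f y₂ y₂ = 0) (h12 : f y₁ y₂ = 0)
    (hind : ∀ r s : F, r • y₁ + s • y₂ = 0 → r = 0 ∧ s = 0)
    (hW : ∀ r s : F, r • y₁ + s • y₂ ∈ W → r = 0 ∧ s = 0) (hW' : ∀ r s : F, r • y₁ + s • y₂ ∈ W' → r = 0 ∧ s = 0)
    [Finite F] (hnorm : ∀ r, σ r = r → ∃ s, s * σ s = r)
    (hel : ∀ c, El σ f M y₁ y₂ 0 c 0) : Side hf W W' M := by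
  obtain ⟨u₁, hu₁, v₁, hv₁, e₁⟩ := P.exists_split y₁
  obtain ⟨u₂, hu₂, v₂, hv₂, e₂⟩ := P.exists_split y₂
  have huu : ∀ {x y : ι → F}, x ∈ W → y ∈ W → f x y = 0 := fun hx hy => P.ti₁ _ hx _ hy
  have hvv : ∀ {x y : ι → F}, x ∈ W' → y ∈ W' → f x y = 0 := fun hx hy => P.ti₂ _ hx _ hy
  have hexp : ∀ {x x' y y' : ι → F}, x ∈ W → x' ∈ W' → y ∈ W → y' ∈ W' →
      f (x + x') (y + y') = f x y' + f x' y := fun hx hx' hy hy' => by
    rw [u_add_left hf, u_add_right hf, u_add_right hf, huu hx hy, hvv hx' hy', zero_add, add_zero]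
  -- a null point of the plane
  obtain ⟨a, b, e, h, p, p', q, q', hp, hp', hq, hq', k1, k2, hdet, hnull⟩ :
      ∃ (a b e h : F) (p p' q q' : ι → F), p ∈ W ∧ p' ∈ W' ∧ q ∈ W ∧ q' ∈ W' ∧
        y₁ = a • (p + p') + b • (q + q') ∧ y₂ = e • (p + p') + h • (q + q') ∧ a * h - b * e ≠ 0 ∧ f p p' = 0 := by
    by_cases hA : f u₁ v₁ = 0
    · exact ⟨1, 0, 0, 1, u₁, v₁, u₂, v₂, hu₁, hv₁, hu₂, hv₂, by rw [e₁]; simp, by rw [e₂]; simp, by simp, hA⟩
    set A := f u₁ v₁ with hAd
    have hA' : σ A = -A := by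
      have h0 := h11
      rw [← e₁, hexp hu₁ hv₁ hu₁ hv₁, ← u_conj hf u₁ v₁, ← hAd] at h0
      linear_combination h0
    set t := f u₂ v₁ / A with ht
    set B := f (u₂ - t • u₁) (v₂ - t • v₁) with hBd
    have hsk : f u₁ v₂ = -σ (f u₂ v₁) := by
      have h0 := h12
      rw [← e₁, ← e₂, hexp hu₁ hv₁ hu₂ hv₂, ← u_conj hf u₂ v₁] at h0
      linear_combination h0
    have hs2 : σ (f u₂ v₂) = -f u₂ v₂ := by
      have h0 := h22
      rw [← e₂, hexp hu₂ hv₂ hu₂ hv₂, ← u_conj hf u₂ v₂] at h0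
      linear_combination h0
    have hB : σ B = -B := by
      simp only [hBd, u_sub_left hf, u_sub_right hf, u_smul_left hf, u_smul_right hf, ← hAd, hsk, map_sub, map_mul,
        map_neg, u_inv hf, hA', hs2]
      ring
    obtain ⟨r, hr⟩ := hnorm (-B / A) (by rw [map_div₀, map_neg, hB, hA', neg_div_neg_eq])
    refine ⟨0, 1, 1, t - r, r • u₁ + (u₂ - t • u₁), r • v₁ + (v₂ - t • v₁), u₁, v₁,
      W.add_mem (W.smul_mem _ hu₁) (W.sub_mem hu₂ (W.smul_mem _ hu₁)),
      W'.add_mem (W'.smul_mem _ hv₁) (W'.sub_mem hv₂ (W'.smul_mem _ hv₁)), hu₁, hv₁, by rw [e₁]; simp,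
      by rw [← e₂]; module, by simp, ?_⟩
    simp only [u_add_left hf, u_add_right hf, u_sub_left hf, u_sub_right hf, u_smul_left hf, u_smul_right hf,
      hsk, ← hAd]
    simp only [hBd, u_sub_left hf, u_sub_right hf, u_smul_left hf, u_smul_right hf, hsk, ← hAd] at hr
    have htA : t * A = f u₂ v₁ := by rw [ht, div_mul_cancel₀ _ hA]
    have htA' := congrArg σ htA
    simp only [map_mul, hA'] at htA'
    field_simp at hr
    linear_combination hr + r * htA' - σ r * htA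
  have htrans : ∀ V : Submodule F (ι → F), (∀ r s : F, r • y₁ + s • y₂ ∈ V → r = 0 ∧ s = 0) →
      ∀ r s : F, r • (p + p') + s • (q + q') ∈ V → r = 0 ∧ s = 0 := fun V hV r s hmem => by
    have h1 : (a * h - b * e) • (r • (p + p') + s • (q + q')) =
        (r * h - s * e) • y₁ + (s * a - r * b) • y₂ := by rw [k1, k2]; module
    obtain ⟨g1, g2⟩ := hV _ _ (h1 ▸ V.smul_mem _ hmem)
    have hr : r * (a * h - b * e) = 0 := by linear_combination a * g1 + e * g2
    have hs : s * (a * h - b * e) = 0 := by linear_combination b * g1 + h * g2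
    exact ⟨(mul_eq_zero.1 hr).resolve_right hdet, (mul_eq_zero.1 hs).resolve_right hdet⟩
  have hTW := htrans W hW
  have hTW' := htrans W' hW'
  have hp0 : p ≠ 0 := fun e0 => one_ne_zero (hTW' 1 0 (by
    rw [e0, zero_add, one_smul, zero_smul, add_zero]; exact hp')).1
  have hp'0 : p' ≠ 0 := fun e0 => one_ne_zero (hTW 1 0 (by
    rw [e0, add_zero, one_smul, zero_smul, add_zero]; exact hp)).1
  have hind' : ∀ r s : F, r • p' + s • q' = 0 → r = 0 ∧ s = 0 := fun r s h0 => hTW r s (by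
    rw [show r • (p + p') + s • (q + q') = (r • p + s • q) + (r • p' + s • q') by module, h0, add_zero]
    exact W.add_mem (W.smul_mem _ hp) (W.smul_mem _ hq))
  have hQP : f (q + q') (p + p') = 0 := by
    have e₃ : (a * h - b * e) • (p + p') = h • y₁ - b • y₂ := by rw [k1, k2]; module
    have e₄ : (a * h - b * e) • (q + q') = a • y₂ - e • y₁ := by rw [k1, k2]; module
    have h21 := u_symm_zero hf h12
    have h0 : f ((a * h - b * e) • (q + q')) ((a * h - b * e) • (p + p')) = 0 := by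
      rw [e₃, e₄]
      simp only [u_sub_left hf, u_sub_right hf, u_smul_left hf, u_smul_right hf, h11, h22, h12, h21]
      ring
    rw [u_smul_left hf, u_smul_right hf, mul_eq_zero, mul_eq_zero] at h0
    rcases h0 with h0 | h0 | h0
    · exact absurd h0 hdet
    · exact absurd ((map_eq_zero_iff σ σ.injective).1 h0) hdet
    · exact h0
  set β₀ := f p q' with hβ₀
  have hβ₀0 : β₀ ≠ 0 := fun h0 => by
    obtain ⟨w', hw', hne⟩ := exists_opp hf P hp hp0
    obtain ⟨r, s, rfl⟩ := span_two P.symm hp' hq' hind' hw'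
    refine hne ?_
    rw [u_add_right hf, u_smul_right hf, u_smul_right hf, hnull, ← hβ₀, h0]
    ring
  have hσβ : σ β₀ ≠ 0 := (map_ne_zero_iff σ σ.injective).2 hβ₀0
  have hcross : f q p' = -σ β₀ := by
    have h0 := hQP
    rw [hexp hq hq' hp hp', ← u_conj hf p q', ← hβ₀] at h0
    linear_combination h0
  obtain ⟨z, hz⟩ := exists_trace_eq hf (s := 1) (map_one σ)
  set δ₀ := f q q' / (σ β₀ * β₀) with hδ₀
  set s₀ := -(δ₀ * z) with hs₀
  obtain ⟨Q, hQ⟩ : ∃ x, x = (σ β₀)⁻¹ • q + s₀ • p := ⟨_, rfl⟩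
  obtain ⟨Q', hQ'⟩ : ∃ x, x = (σ β₀)⁻¹ • q' + s₀ • p' := ⟨_, rfl⟩
  have hQW : Q ∈ W := hQ ▸ W.add_mem (W.smul_mem _ hq) (W.smul_mem _ hp)
  have hQW' : Q' ∈ W' := hQ' ▸ W'.add_mem (W'.smul_mem _ hq') (W'.smul_mem _ hp')
  have hpp' : f p p = 0 := huu hp hp
  have hn1 : f p Q' = 1 := by
    rw [hQ', u_add_right hf, u_smul_right hf, u_smul_right hf, hnull, ← hβ₀, map_inv₀, u_inv hf,
      inv_mul_cancel₀ hβ₀0, mul_zero, add_zero]
  have hn2 : f Q p' = -1 := by
    rw [hQ, u_add_left hf, u_smul_left hf, u_smul_left hf, hnull, hcross]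
    field_simp
    ring
  have hδσ : σ δ₀ = -δ₀ := by
    have h0 : σ (f q q') = -f q q' := by
      have e₄ : (a * h - b * e) • (q + q') = a • y₂ - e • y₁ := by rw [k1, k2]; module
      have h21 := u_symm_zero hf h12
      have hqq : f (q + q') (q + q') = 0 := by
        have h0 : f ((a * h - b * e) • (q + q')) ((a * h - b * e) • (q + q')) = 0 := by
          rw [e₄]
          simp only [u_sub_left hf, u_sub_right hf, u_smul_left hf, u_smul_right hf, h11, h22, h12, h21]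
          ring
        rw [u_smul_left hf, u_smul_right hf, mul_eq_zero, mul_eq_zero] at h0
        rcases h0 with h0 | h0 | h0
        · exact absurd h0 hdet
        · exact absurd ((map_eq_zero_iff σ σ.injective).1 h0) hdet
        · exact h0
      rw [hexp hq hq' hq hq', ← u_conj hf q q'] at hqq
      linear_combination hqq
    rw [hδ₀, map_div₀, map_mul, u_inv hf, h0, mul_comm β₀, neg_div]
  have hn3 : f Q Q' = 0 := by
    simp only [hQ, hQ', u_add_left hf, u_add_right hf, u_smul_left hf, u_smul_right hf, hnull, ← hβ₀, hcross]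
    have e1 : f q q' = δ₀ * (σ β₀ * β₀) := by rw [hδ₀, div_mul_cancel₀ _ (mul_ne_zero hσβ hβ₀0)]
    rw [e1, map_inv₀, u_inv hf, hs₀, map_neg, map_mul, hδσ]
    field_simp
    linear_combination -δ₀ * hz
  set a₁ := a - b * σ β₀ * s₀
  set b₁ := b * σ β₀
  set c₁ := e - h * σ β₀ * s₀
  set d₁ := h * σ β₀
  have m1 : y₁ = a₁ • (p + p') + b₁ • (Q + Q') := by
    rw [k1, hQ, hQ']
    match_scalars <;> simp only [a₁, b₁] <;> field_simp <;> ring
  have m2 : y₂ = c₁ • (p + p') + d₁ • (Q + Q') := by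
    rw [k2, hQ, hQ']
    match_scalars <;> simp only [c₁, d₁] <;> field_simp <;> ring
  have hdet₁ : a₁ * d₁ - b₁ * c₁ ≠ 0 := fun h0 => mul_ne_zero hdet hσβ (by linear_combination h0)
  clear_value a₁ b₁ c₁ d₁
  have hPP : f (p + p') (p + p') = 0 := by rw [hexp hp hp' hp hp', hnull, u_symm_zero hf hnull, add_zero]
  have hQp' : f p' Q = -1 := by rw [← u_conj hf, hn2, map_neg, map_one]
  have hQ'p : f Q' p = 1 := by rw [← u_conj hf, hn1, map_one]
  have hQQ : f (Q + Q') (Q + Q') = 0 := by rw [hexp hQW hQW' hQW hQW', hn3, u_symm_zero hf hn3, add_zero]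
  have hPQ : f (p + p') (Q + Q') = 0 := by rw [hexp hp hp' hQW hQW', hn1, hQp']; ring
  have hp'p : f p' p = 0 := u_symm_zero hf hnull
  -- the symmetries of the plane
  have hshift : ∀ {α β ξ : F} (s : F), σ s = s → σ ξ = -ξ → El σ f M (p + p') (Q + Q') α β ξ →
      El σ f M (p + p') (Q + Q') (α - σ β * s + s * β + ξ * (s * s)) (β + ξ * s) ξ := fun {α β ξ} s hs hξ hE => by
    have hk := short hf P hK p hp p' hp' hnull s
    have hO : OrthIso hf p p' := ⟨hpp', hvv hp' hp', hnull⟩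
    have e1 : (uh hf p p' s : Matrix ι ι F) *ᵥ (p + p') = p + p' := by
      rw [uh_mulVec hf hO, u_add_left hf, u_add_left hf, hpp', hp'p, hnull, hvv hp' hp']; module
    have e2 : (uh hf p p' s : Matrix ι ι F) *ᵥ (Q + Q') = Q + Q' + s • (p + p') := by
      rw [uh_mulVec hf hO, u_add_left hf, u_add_left hf, huu hQW hp, hQ'p, hn2, hvv hQW' hp', hs]; module
    have hE' := El.conj hf hE hk (uh_mem_iso hf _ _ _)
    rw [e1, e2] at hE'
    exact (El.shift hf hξ hE').congr (by rw [hs]) (by rw [hs]) rfl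
  obtain ⟨k₁, hk₁, hk₁i, hk₁x⟩ := exists_scale hf P hK hp hQW' hn1 hm hm0
  obtain ⟨k₂, hk₂, hk₂i, hk₂x⟩ := exists_scale hf P hK hQW (W'.neg_mem hp') (by rw [u_neg_right hf, hn2, neg_neg])
    (m := m⁻¹) (by rw [map_inv₀, hm]) (inv_ne_zero hm0)
  have hki : k₁ * k₂ ∈ isoGrp f := Subgroup.mul_mem _ hk₁i hk₂i
  have t1 : ((k₁ * k₂ : GL ι F) : Matrix ι ι F) *ᵥ (p + p') = m • (p + p') := by
    rw [mul_mulVec, hk₂x, hk₁x]
    simp only [u_add_left hf, u_smul_left hf, u_neg_left hf, u_neg_right hf, hpp', hp'p, hnull, hn1, hQp',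
      huu hp hQW, huu hQW hp, hvv hp' hp', hvv hp' hQW', inv_inv]
    module
  have t2 : ((k₁ * k₂ : GL ι F) : Matrix ι ι F) *ᵥ (Q + Q') = m⁻¹ • (Q + Q') := by
    rw [mul_mulVec, hk₂x, hk₁x]
    simp only [u_add_left hf, u_smul_left hf, u_neg_left hf, u_neg_right hf, hn2, hn3, hQp', hQ'p,
      u_symm_zero hf hn3, huu hQW hQW, huu hQW hp, hvv hQW' hp', hvv hQW' hQW', hvv hp' hQW', inv_inv]
    module
  have htor : ∀ {α β ξ : F}, El σ f M (p + p') (Q + Q') α β ξ →
      El σ f M (p + p') (Q + Q') (α * (m * m)) β (ξ * (m⁻¹ * m⁻¹)) := fun hE => by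
    have hE' := El.conj hf hE (M.mul_mem hk₁ hk₂) hki
    rw [t1, t2] at hE'
    exact (El.smul hf hE').congr (by rw [hm]) (by rw [hm, mul_inv_cancel₀ hm0, mul_one]) (by rw [map_inv₀, hm])
  -- a transvection at the null point
  obtain ⟨l, hl0, hl, hut⟩ : ∃ l : F, l ≠ 0 ∧ σ l = -l ∧ ut hf (p + p') l ∈ M := by
    obtain ⟨w, hw⟩ := exists_not_fixed hf
    have hdiag : ∀ {α : F}, α ≠ 0 → σ α = -α → ∀ β : F, El σ f M (p + p') (Q + Q') α β 0 →
        ∃ l : F, l ≠ 0 ∧ σ l = -l ∧ ut hf (p + p') l ∈ M := fun {α} hα0 hα β hE => by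
      have h1 := El.sub hf hPP hQQ hPQ (htor hE) hE
      exact ⟨α * (m * m - 1), mul_ne_zero hα0 (sub_ne_zero.2 hm1), by
        rw [map_mul, map_sub, map_mul, hm, map_one, hα]; ring,
        El.to_ut hf hPP (h1.congr (by ring) (sub_self β) (by ring))⟩
    by_contra hno
    have hbad : ∀ c : F, c * σ a₁ * c₁ - σ c * σ c₁ * a₁ = 0 ∧ c * σ b₁ * d₁ - σ c * σ d₁ * b₁ = 0 ∧
        σ (c * σ a₁ * d₁ - σ c * σ c₁ * b₁) = c * σ a₁ * d₁ - σ c * σ c₁ * b₁ := by
      intro c
      set α := c * σ a₁ * c₁ - σ c * σ c₁ * a₁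
      set β := c * σ a₁ * d₁ - σ c * σ c₁ * b₁
      set ξ := c * σ b₁ * d₁ - σ c * σ d₁ * b₁
      have hA : El σ f M (p + p') (Q + Q') α β ξ := by
        obtain ⟨k, hk, hkx⟩ := hel c
        refine ⟨k, hk, fun x => ?_⟩
        rw [hkx, m1, m2]
        simp only [α, β, ξ, u_add_right hf, u_smul_right hf, map_sub, map_mul, u_inv hf]
        match_scalars <;> ring
      have hξ : σ ξ = -ξ := by simp only [ξ, map_sub, map_mul, u_inv hf]; ring
      have hα : σ α = -α := by simp only [α, map_sub, map_mul, u_inv hf]; ring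
      have hD : ∀ s, σ s = s → s * (β - σ β) + ξ * (s * s) = 0 := fun s hs => by
        by_contra hne
        have h1 := El.sub hf hPP hQQ hPQ (hshift s hs hξ hA) hA
        refine hno (hdiag hne ?_ (ξ * s) (h1.congr (by ring) (by ring) (sub_self ξ)))
        rw [map_add, map_mul, map_mul, map_sub, map_mul, u_inv hf, hs, hξ]; ring
      have d1 := hD 1 (map_one σ)
      have dm := hD m hm
      have hm1' : m ≠ 1 := fun e => hm1 (by rw [e, one_mul])
      have hξ0 : ξ = 0 := (mul_eq_zero.1 (show ξ * (m * (m - 1)) = 0 by linear_combination dm - m * d1)).resolve_right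
        (mul_ne_zero hm0 (sub_ne_zero.2 hm1'))
      have hβ : σ β = β := by linear_combination (-1) * d1 + hξ0
      refine ⟨by_contra fun hα0 => hno (hdiag hα0 hα β (hA.congr rfl rfl hξ0)), hξ0, hβ⟩
    have hX : ∀ X : F, (∀ c, c * X - σ c * σ X = 0) → X = 0 := fun X hX => by
      have e1 := hX 1
      have e2 := hX w
      rw [map_one, one_mul, one_mul] at e1
      have : (w - σ w) * X = 0 := by linear_combination e2 - σ w * e1
      exact (mul_eq_zero.1 this).resolve_left (sub_ne_zero.2 (Ne.symm hw))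
    have x1 := hX (σ a₁ * c₁) fun c => by rw [map_mul, u_inv hf]; linear_combination (hbad c).1
    have x2 := hX (σ b₁ * d₁) fun c => by rw [map_mul, u_inv hf]; linear_combination (hbad c).2.1
    have x3 := hX (σ a₁ * d₁ + σ b₁ * c₁) fun c => by
      have h3 := (hbad c).2.2
      simp only [map_add, map_sub, map_mul, u_inv hf] at h3 ⊢
      linear_combination (-1) * h3
    have hσ0 : ∀ {x : F}, σ x = 0 → x = 0 := fun h0 => (map_eq_zero_iff σ σ.injective).1 h0
    refine hdet₁ ?_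
    rcases mul_eq_zero.1 x1 with ha | hc
    · have ha := hσ0 ha
      rw [ha, map_zero, zero_mul, zero_add] at x3
      rcases mul_eq_zero.1 x3 with hb | hc
      · rw [ha, hσ0 hb]; ring
      · rw [ha, hc]; ring
    · rw [hc, mul_zero, add_zero] at x3
      rcases mul_eq_zero.1 x3 with ha | hd
      · rw [hσ0 ha, hc]; ring
      · rw [hd, hc]; ring
  -- separate it
  have hE : El σ f M p p' l l l := by
    refine ⟨_, hut, fun x => ?_⟩
    rw [ut_mulVec hf hPP, u_add_right hf, hl]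
    module
  exact side_sep hf P hK hm hm0 hm1 hp hp0 hp' hp'0 hnull hl hl (Or.inl hl0) hE

end Cfsg.Agent.H12.SUFour.Halves
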