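import Cfsg.Agent.H58.SUSmall.Polar

/-!
Polarizations of a unitary space into two planes: copies of the general facts that need no further room.
-/

set_option autoImplicit false

namespace Cfsg.Agent.H12.SUFour.Halves

open scoped MatrixGroups Matrix
open Matrix Cfsg.Agent.H95
open Cfsg.Agent.Symplectic hiding HPolar HShort uh_mem_sl exists_not_fixed mul_conj_conj ut_of_short_same ut_of_indep ut_of_dep ut_of_mixed exists_short_move' utIn_of_one exists_hpolar_swap

variable {ι : Type} [Fintype ι] [DecidableEq ι] {F : Type*} [Field F]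
  {σ : F ≃+* F} {f : (ι → F) → (ι → F) → F}
  {W₁ W₂ : Submodule F (ι → F)} {M : Subgroup (GL ι F)}

/-- A polarization into two planes. -/
structure HPol (f : (ι → F) → (ι → F) → F) (W₁ W₂ : Submodule F (ι → F)) : Prop where
  ti₁ : ∀ u ∈ W₁, ∀ v ∈ W₁, f u v = 0
  ti₂ : ∀ u ∈ W₂, ∀ v ∈ W₂, f u v = 0
  compl : IsCompl W₁ W₂
  dim₁ : Module.finrank F W₁ = 2
  dim₂ : Module.finrank F W₂ = 2

theorem HPol.symm (h : HPol f W₁ W₂) : HPol f W₂ W₁ := ⟨h.ti₂, h.ti₁, h.compl.symm, h.dim₂, h.dim₁⟩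

theorem HPol.exists_split (h : HPol f W₁ W₂) (x : ι → F) : ∃ a ∈ W₁, ∃ b ∈ W₂, a + b = x :=
  Submodule.mem_sup.1 (h.compl.sup_eq_top ▸ Submodule.mem_top)

variable (hf : Geo.IsUnitaryForm σ f)
include hf

omit hf in
/-- `M` contains the short root elements between the two subspaces. -/
def Short (hf : Geo.IsUnitaryForm σ f) (W₁ W₂ : Submodule F (ι → F)) (M : Subgroup (GL ι F)) : Prop :=
  ∀ u ∈ W₁, ∀ v ∈ W₂, f u v = 0 → ∀ c : F, uh hf u v c ∈ M

theorem HPol.exists_dual (h : HPol f W₁ W₂) {u v : ι → F} (hu : u ∈ W₂) (hv : v ∈ W₂)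
    (hind : ∀ t : F, v ≠ t • u) : ∃ p ∈ W₁, f u p = 0 ∧ f v p = 1 := by
  obtain ⟨x, h1, h2⟩ := exists_u_perp_one hf hind
  obtain ⟨p, hp, q, hq, rfl⟩ := h.exists_split x
  rw [u_add_left hf, h.ti₂ q hq u hu, add_zero] at h1
  rw [u_add_left hf, h.ti₂ q hq v hv, add_zero] at h2
  exact ⟨p, hp, by rw [← u_conj hf, h1, map_zero], by rw [← u_conj hf, h2, map_one]⟩

/-- short root elements move vectors -/
theorem exists_short_move' (h : HPol f W₁ W₂) (hS : Short hf W₁ W₂ M) {u v : ι → F}
    (hu : u ∈ W₂) (hv : v ∈ W₂) (hv0 : v ≠ 0) (hind : ∀ t : F, u ≠ t • v) :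
    ∃ g ∈ M, g ∈ isoGrp f ∧ (g : Matrix ι ι F) *ᵥ u = v := by
  obtain ⟨p, hp, hvp, hup⟩ := h.exists_dual hf hv hu hind
  have d0 : ∀ t : F, v ≠ t • u := fun t e => by
    rcases eq_or_ne t 0 with rfl | ht
    · exact hv0 (by rw [e, zero_smul])
    · exact hind t⁻¹ (by rw [e, inv_smul_smul₀ ht])
  obtain ⟨p', hp', hup', hvp'⟩ := h.exists_dual hf hu hv d0
  have pv : f p v = 0 := u_symm_zero hf hvp
  have p'u : f p' u = 0 := u_symm_zero hf hup'
  refine ⟨uh hf p' u (-1) * uh hf p v 1, M.mul_mem (hS p' hp' u hu p'u (-1)) (hS p hp v hv pv 1),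
    Subgroup.mul_mem _ (uh_mem_iso hf _ _ _) (uh_mem_iso hf _ _ _), ?_⟩
  rw [mul_mulVec, uh_mulVec hf ⟨h.ti₁ p hp p hp, h.ti₂ v hv v hv, pv⟩,
    uh_mulVec hf ⟨h.ti₁ p' hp' p' hp', h.ti₂ u hu u hu, p'u⟩, hup, h.ti₂ u hu v hv]
  simp only [one_mul, one_smul, mul_zero, zero_smul, sub_zero, u_add_left hf, hup', hvp',
    h.ti₂ u hu u hu, h.ti₂ v hv u hu, map_neg, map_one]
  module

/-- one transvection gives all on its side -/
theorem utIn_of_one [Finite F] (h : HPol f W₁ W₂) (hS : Short hf W₁ W₂ M) {y : ι → F}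
    (hy : y ∈ W₂) (hy0 : y ≠ 0) {l : F} (hl : l ≠ 0) (hls : σ l = -l) (hyl : ut hf y l ∈ M) :
    ∀ v ∈ W₂, UtIn hf M v := by
  have yy := h.ti₂ y hy y hy
  have inv : ∀ u v : ι → F, u ≠ 0 → (∀ t : F, v ≠ t • u) → ∀ t : F, u ≠ t • v := by
    intro u v hu hind t e
    rcases eq_or_ne t 0 with rfl | ht
    · exact hu (by rw [e, zero_smul])
    · exact hind t⁻¹ (by rw [e, inv_smul_smul₀ ht])
  obtain ⟨v0, hv0, hv0i⟩ : ∃ v ∈ W₂, ∀ t : F, v ≠ t • y := by
    by_contra hc
    push Not at hc
    have hle : W₂ ≤ Submodule.span F {y} := fun v hv => by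
      obtain ⟨t, rfl⟩ := hc v hv
      exact Submodule.smul_mem _ _ (Submodule.mem_span_singleton_self y)
    have := Submodule.finrank_mono hle
    rw [finrank_span_singleton hy0] at this
    have := h.dim₂
    omega
  have hv00 : v0 ≠ 0 := fun e => hv0i 0 (by rw [e, zero_smul])
  have hnorm : ∀ s : F, ut hf y (l * (s * σ s)) ∈ M := by
    intro s
    rcases eq_or_ne s 0 with rfl | hs
    · simp [ut_zero hf y yy]
    obtain ⟨g, hg, hgi, hgy⟩ := exists_short_move' hf h hS hy hv0 hv00 (inv _ _ hy0 hv0i)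
    have h1 := conj_mem hg hyl
    rw [conj_ut hf hgi yy, hgy] at h1
    obtain ⟨g', hg', hgi', hgv⟩ := exists_short_move' hf h hS hv0 (W₂.smul_mem s hy)
      (smul_ne_zero hs hy0) (fun t => by rw [smul_smul]; exact hv0i _)
    have h3 := conj_mem hg' h1
    rwa [conj_ut hf hgi' (h.ti₂ v0 hv0 v0 hv0), hgv, ut_smul_vec hf yy] at h3
  have base : UtIn hf M y := by
    intro m hm
    set t := m / l with ht
    have hts : σ t = t := by rw [ht, map_div₀, hm, hls, neg_div_neg_eq]
    have hmt : m = l * t := by rw [ht, mul_div_cancel₀ m hl]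
    rw [hmt]
    by_cases h2 : (2 : F) = 0
    · haveI : CharP F 2 := CharTwo.of_one_ne_zero_of_two_eq_zero one_ne_zero h2
      obtain ⟨s, hs⟩ := (Finite.injective_iff_surjective (f := fun s : F => s ^ 2)).1
        (fun a b e => frobenius_inj F 2 e) t
      have hs' : s ^ 2 = t := hs
      have hss : σ s = s := frobenius_inj F 2 (show σ s ^ 2 = s ^ 2 by rw [← map_pow, hs', hts])
      rw [← hs', pow_two]
      have := hnorm s
      rwa [hss] at this
    · have e1 : σ ((t + 1) / 2) = (t + 1) / 2 := by simp [hts, map_ofNat σ 2]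
      have e2 : σ ((t - 1) / 2) = (t - 1) / 2 := by simp [hts, map_ofNat σ 2]
      have := M.mul_mem (hnorm ((t + 1) / 2)) (M.inv_mem (hnorm ((t - 1) / 2)))
      rw [ut_inv hf yy, ut_add hf yy, e1, e2] at this
      convert this using 2
      field_simp
      ring
  intro v hv
  by_cases hdep : ∃ t : F, v = t • y
  · obtain ⟨t, rfl⟩ := hdep
    exact base.smul hf yy t
  · push Not at hdep
    have hv0' : v ≠ 0 := fun e => hdep 0 (by rw [e, zero_smul])
    obtain ⟨g, hg, hgi, hgy⟩ := exists_short_move' hf h hS hy hv hv0' (inv _ _ hy0 hdep)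
    exact hgy ▸ base.conj hf yy hg hgi

/-- an element of `SU` exchanging the members of a polarization -/
theorem exists_pol_swap (h : HPol f W₁ W₂) (hd : Module.finrank F W₁ = Module.finrank F W₂) :
    ∃ w ∈ isoGrp f, w ∈ Geo.specialLinear ι F ∧ (∀ x ∈ W₁, (w : Matrix ι ι F) *ᵥ x ∈ W₂) ∧
      ∀ x ∈ W₂, (w : Matrix ι ι F) *ᵥ x ∈ W₁ := by
  obtain ⟨δ, hδ0, hδ⟩ := exists_skew_ne_zero hf
  set n := Module.finrank F W₁
  let b := Module.finBasis F W₁
  let L : W₂ →ₗ[F] (Fin n → F) :=
    { toFun := fun q i => f q (b i : ι → F)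
      map_add' := fun x y => by ext i; simp [u_add_left hf]
      map_smul' := fun t x => by ext i; simp [u_smul_left hf] }
  have hspan : ∀ x ∈ W₁, x ∈ Submodule.span F (Set.range fun i => (b i : ι → F)) := by
    intro x hx
    have := congrArg Subtype.val (b.sum_repr ⟨x, hx⟩)
    simp only [AddSubmonoidClass.coe_finset_sum, SetLike.val_smul] at this
    rw [← this]
    exact Submodule.sum_mem _ fun i _ => Submodule.smul_mem _ _ (Submodule.subset_span ⟨i, rfl⟩)
  have hLi : Function.Injective L := by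
    rw [← LinearMap.ker_eq_bot, LinearMap.ker_eq_bot']
    intro q hq
    by_contra hq0
    obtain ⟨-, y, hy⟩ := hf.nondegenerate (q : ι → F) (by simpa using hq0)
    obtain ⟨p, hp, r, hr, rfl⟩ := h.exists_split y
    rw [u_add_right hf, h.ti₂ _ q.2 r hr, add_zero] at hy
    have hz : f (q : ι → F) p = 0 := by
      have hp' := hspan p hp
      clear hy hp
      induction hp' using Submodule.span_induction with
      | mem z hz => obtain ⟨i, rfl⟩ := hz; exact congrFun hq i
      | zero => exact u_zero_right hf _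
      | add x y _ _ hx hy => rw [u_add_right hf, hx, hy, add_zero]
      | smul c x _ hx => rw [u_smul_right hf, hx, mul_zero]
    exact hy hz
  have hLs : Function.Surjective L :=
    (LinearMap.injective_iff_surjective_of_finrank_eq_finrank
      (by rw [Module.finrank_fin_fun, ← hd])).1 hLi
  choose e' he' using fun i : Fin n => hLs (Pi.single i 1)
  have pair : ∀ i j, f (e' j : ι → F) (b i : ι → F) = if i = j then 1 else 0 := by
    intro i j
    have := congrFun (he' j) i
    simpa [L, Pi.single_apply] using this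
  have pair' : ∀ i j, f (b i : ι → F) (e' j : ι → F) = if i = j then 1 else 0 := fun i j => by
    rw [← u_conj hf, pair]; split <;> simp
  have hdd : σ (-δ⁻¹) = -(-δ⁻¹) := by rw [map_neg, map_inv₀, hδ, inv_neg]
  have step : ∀ s : Finset (Fin n), ∃ w ∈ isoGrp f, w ∈ Geo.specialLinear ι F ∧
      (∀ i, (w : Matrix ι ι F) *ᵥ (b i : ι → F) =
        if i ∈ s then (-δ⁻¹) • (e' i : ι → F) else (b i : ι → F)) ∧
      ∀ i, (w : Matrix ι ι F) *ᵥ (e' i : ι → F) =
        if i ∈ s then δ • (b i : ι → F) else (e' i : ι → F) := by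
    intro s
    induction s using Finset.induction_on with
    | empty => exact ⟨1, Subgroup.one_mem _, Subgroup.one_mem _, by simp, by simp⟩
    | @insert k s hk ih =>
      obtain ⟨w, hw, hws, w1, w2⟩ := ih
      have bb := h.ti₁ _ (b k).2 _ (b k).2
      have ee := h.ti₂ _ (e' k).2 _ (e' k).2
      have k1 : f (b k : ι → F) (e' k : ι → F) = 1 := by rw [pair', if_pos rfl]
      have k2 : f (e' k : ι → F) (b k : ι → F) = 1 := by rw [pair, if_pos rfl]
      set R := ut hf (b k : ι → F) δ * ut hf (e' k : ι → F) (-δ⁻¹) * ut hf (b k : ι → F) δ with hR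
      have R1 : (R : Matrix ι ι F) *ᵥ (b k : ι → F) = (-δ⁻¹) • (e' k : ι → F) := by
        simp only [hR, mul_mulVec, ut_mulVec hf bb, ut_mulVec hf ee, u_add_left hf, u_smul_left hf,
          bb, k1, k2]
        match_scalars <;> field_simp <;> ring
      have R2 : (R : Matrix ι ι F) *ᵥ (e' k : ι → F) = δ • (b k : ι → F) := by
        simp only [hR, mul_mulVec, ut_mulVec hf bb, ut_mulVec hf ee, u_add_left hf, u_smul_left hf,
          bb, ee, k1, k2]
        match_scalars <;> field_simp <;> ring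
      have Rb : ∀ i, i ≠ k → (R : Matrix ι ι F) *ᵥ (b i : ι → F) = (b i : ι → F) := by
        intro i hi
        rw [hR, mul_mulVec, mul_mulVec]; simp [ut_mulVec hf bb, ut_mulVec hf ee, h.ti₁ _ (b i).2 _ (b k).2,
          pair' i k, hi]
      have Re : ∀ i, i ≠ k → (R : Matrix ι ι F) *ᵥ (e' i : ι → F) = (e' i : ι → F) := by
        intro i hi
        rw [hR, mul_mulVec, mul_mulVec]; simp [ut_mulVec hf bb, ut_mulVec hf ee, h.ti₂ _ (e' i).2 _ (e' k).2,
          pair k i, Ne.symm hi]
      have hRi : R ∈ isoGrp f :=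
        Subgroup.mul_mem _ (Subgroup.mul_mem _ (ut_mem_iso hf bb hδ) (ut_mem_iso hf ee hdd))
          (ut_mem_iso hf bb hδ)
      have hRs : R ∈ Geo.specialLinear ι F :=
        Subgroup.mul_mem _ (Subgroup.mul_mem _ (ut_mem_sl hf _ _) (ut_mem_sl hf _ _))
          (ut_mem_sl hf _ _)
      refine ⟨R * w, Subgroup.mul_mem _ hRi hw, Subgroup.mul_mem _ hRs hws,
        fun i => ?_, fun i => ?_⟩
      · rw [mul_mulVec, w1]
        rcases eq_or_ne i k with rfl | hik
        · rw [if_neg hk, R1, if_pos (Finset.mem_insert_self i s)]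
        · by_cases his : i ∈ s
          · rw [if_pos his, mulVec_smul, Re i hik, if_pos (Finset.mem_insert_of_mem his)]
          · rw [if_neg his, Rb i hik, if_neg (by simp [hik, his])]
      · rw [mul_mulVec, w2]
        rcases eq_or_ne i k with rfl | hik
        · rw [if_neg hk, R2, if_pos (Finset.mem_insert_self i s)]
        · by_cases his : i ∈ s
          · rw [if_pos his, mulVec_smul, Rb i hik, if_pos (Finset.mem_insert_of_mem his)]
          · rw [if_neg his, Re i hik, if_neg (by simp [hik, his])]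
  obtain ⟨w, hw, hws, w1, w2⟩ := step Finset.univ
  refine ⟨w, hw, hws, fun x hx => ?_, fun x hx => ?_⟩
  · have hx' := hspan x hx
    clear hx
    induction hx' using Submodule.span_induction with
    | mem z hz =>
      obtain ⟨i, rfl⟩ := hz
      rw [w1, if_pos (Finset.mem_univ i)]
      exact W₂.smul_mem _ (e' i).2
    | zero => rw [mulVec_zero]; exact W₂.zero_mem
    | add x y _ _ hx hy => rw [mulVec_add]; exact W₂.add_mem hx hy
    | smul c x _ hx => rw [mulVec_smul]; exact W₂.smul_mem c hx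
  · have hx' : x = ∑ i, f x (b i : ι → F) • (e' i : ι → F) := by
      have : (⟨x, hx⟩ : W₂) = ∑ i, f x (b i : ι → F) • e' i := by
        apply hLi
        rw [map_sum]
        simp only [map_smul, he']
        exact pi_eq_sum_univ' _
      have := congrArg Subtype.val this
      simpa using this
    rw [hx', mulVec_sum]
    refine Submodule.sum_mem _ fun i _ => ?_
    rw [mulVec_smul, w2, if_pos (Finset.mem_univ i)]
    exact W₁.smul_mem _ (W₁.smul_mem _ (b i).2)

end Cfsg.Agent.H12.SUFour.Halves
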