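import Cfsg.Agent.H12.SUFour.Halves
import Cfsg.Agent.S5657

/-!
Stabilisers of two totally isotropic planes are maximal in the special unitary group of dimension four.
-/

set_option autoImplicit false
open Cfsg

namespace Cfsg.Agent.H12.SUFour.Halves

open scoped MatrixGroups Matrix
open Matrix Cfsg.Agent.H95 Cfsg.Agent.H12.SUFour.Orth
open Cfsg.Agent.Symplectic hiding HPolar HShort uh_mem_sl exists_not_fixed mul_conj_conj ut_of_short_same ut_of_indep ut_of_dep ut_of_mixed exists_short_move' utIn_of_one exists_hpolar_swap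
open Cfsg.Agent.H58.SUSmall.Polar (uh_mem_sl exists_not_fixed)

section
variable {ι : Type} [Fintype ι] [DecidableEq ι] {F : Type*} [Field F]
  {σ : F ≃+* F} {f : (ι → F) → (ι → F) → F} {W W' : Submodule F (ι → F)} {M : Subgroup (GL ι F)}
  (hf : Geo.IsUnitaryForm σ f) (P : HPol f W W')
include hf P

theorem exists_perp_one (a : ι → F) : ∃ r ∈ W', r ≠ 0 ∧ f a r = 0 := by
  let L : W' →ₗ[F] (Fin 1 → F) :=
    { toFun := fun r _ => f r a
      map_add' := fun x y => funext fun _ => u_add_left hf _ _ _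
      map_smul' := fun t x => funext fun _ => u_smul_left hf _ _ _ }
  have hne : L.ker ≠ ⊥ := by
    intro hb
    have := LinearMap.finrank_le_finrank_of_injective (LinearMap.ker_eq_bot.1 hb)
    rw [Module.finrank_fin_fun, P.dim₂] at this
    omega
  obtain ⟨r, hr, hr0⟩ := L.ker.ne_bot_iff.1 hne
  exact ⟨r, r.2, by simpa using hr0, u_symm_zero hf (congrFun (LinearMap.mem_ker.1 hr) 0)⟩

/-- Short root elements at a mixed vector give a transvection in one of the planes. -/
theorem side_mixed [Finite F] (hK : Keep f W W' M) {m : F} (hm : σ m = m) (hm0 : m ≠ 0) (hm1 : m * m ≠ 1)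
    (hnorm : ∀ r, σ r = r → ∃ s, s * σ s = r) {w z : ι → F} (hw1 : w ∉ W) (hw2 : w ∉ W')
    (hz : ∀ t : F, z ≠ t • w) (hO : OrthIso hf w z) (hc : ∀ c, uh hf w z c ∈ M) : Side hf W W' M := by
  have hel : ∀ c, El σ f M w z 0 c 0 := fun c =>
    ⟨_, hc c, fun x => by rw [uh_mulVec hf hO]; module⟩
  have hw0 : w ≠ 0 := fun e => hw1 (e ▸ W.zero_mem)
  have hind : ∀ r s : F, r • w + s • z = 0 → r = 0 ∧ s = 0 := fun r s h0 => by
    by_cases hs : s = 0
    · subst hs
      rw [zero_smul, add_zero, smul_eq_zero] at h0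
      exact ⟨h0.resolve_right hw0, rfl⟩
    · refine absurd ?_ (hz (-r / s))
      have := congrArg (fun x => s⁻¹ • x) h0
      simp only [smul_add, smul_smul, inv_mul_cancel₀ hs, one_smul, smul_zero] at this
      rw [eq_neg_of_add_eq_zero_right this, ← neg_smul]
      congr 1
      ring
  have point : ∀ {V V' : Submodule F (ι → F)}, HPol f V V' → Keep f V V' M → w ∉ V → w ∉ V' → ∀ r s : F,
      r • w + s • z ∈ V → ¬(r = 0 ∧ s = 0) → Side hf V V' M := fun {V V'} P' hK' h1 h2 r s hmem hne => by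
    have hp0 : r • w + s • z ≠ 0 := fun e => hne (hind r s e)
    obtain ⟨o1, o2, o3⟩ := hO
    by_cases hr : r = 0
    · subst hr
      have hs : s ≠ 0 := fun e => hne ⟨rfl, e⟩
      exact side_point hf P' hK' hm hm0 hm1 hmem hp0 o1
        (by rw [u_add_left hf, u_smul_left hf, u_smul_left hf, u_symm_zero hf o3, o1]; ring)
        (a := 0) (b := 1) (e := s⁻¹) (h := 0) (by rw [one_smul, zero_smul, zero_add])
        (by match_scalars <;> field_simp <;> ring) (by simp [hs]) h1 h2 hel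
    · exact side_point hf P' hK' hm hm0 hm1 hmem hp0 o2
        (by rw [u_add_left hf, u_smul_left hf, u_smul_left hf, o3, o2]; ring)
        (a := r⁻¹) (b := -s / r) (e := 0) (h := 1)
        (by match_scalars <;> field_simp <;> ring) (by rw [one_smul, zero_smul, zero_add]) (by simp [hr]) h1 h2 hel
  by_cases h1 : ∀ r s : F, r • w + s • z ∈ W → r = 0 ∧ s = 0
  · by_cases h2 : ∀ r s : F, r • w + s • z ∈ W' → r = 0 ∧ s = 0
    · exact side_graph hf P hK hm hm0 hm1 hO.1 hO.2.1 hO.2.2 hind h1 h2 hnorm hel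
    · simp only [not_forall] at h2
      obtain ⟨r, s, hmem, hne⟩ := h2
      exact (point P.symm hK.symm hw2 hw1 r s hmem hne).symm
  · simp only [not_forall] at h1
    obtain ⟨r, s, hmem, hne⟩ := h1
    exact point P hK hw1 hw2 r s hmem hne

end

/-- Two totally isotropic halves. -/
theorem isMaximalIn_halves_two {ι : Type} [Fintype ι] [DecidableEq ι] {F : Type*} [Field F] [Finite F]
    (hι : Fintype.card ι = 2 * 2) {σ : F ≃+* F}
    {f : (ι → F) → (ι → F) → F} (hf : Geo.IsUnitaryForm σ f) (D : Fin 2 → Submodule F (ι → F))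
    (hD : Geo.IsMDecomposition 2 D) (hts : ∀ i, Geo.IsTotallySingularFor f (D i))
    (G : Subgroup (GL ι F)) (hG : G = isoGrp f ⊓ Geo.specialLinear ι F)
    {m : F} (hm : σ m = m) (hm0 : m ≠ 0) (hm1 : m * m ≠ 1)
    (hnorm : ∀ r, σ r = r → ∃ s, s * σ s = r) (hgen : ∀ M : Subgroup (GL ι F), (∀ v, f v v = 0 → UtIn hf M v) → G ≤ M) :
    Geo.IsMaximalIn G (Geo.decompositionStabilizer D ⊓ G) := by
  set S := Geo.decompositionStabilizer D ⊓ G with hS
  have hinj : ∀ g : GL ι F, Function.Injective (Matrix.toLin' (g : Matrix ι ι F)) := fun g x y e => by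
    simp only [Matrix.toLin'_apply] at e
    exact gl_mulVec_injective g e
  have hmemS : ∀ g : GL ι F, g ∈ G → ∀ τ : Fin 2 → Fin 2, Function.Injective τ →
      (∀ i, ∀ x ∈ D i, (g : Matrix ι ι F) *ᵥ x ∈ D (τ i)) → g ∈ S := by
    intro g hg τ hτ h
    refine ⟨⟨Equiv.ofBijective τ (Finite.injective_iff_bijective.1 hτ), fun i => ?_⟩, hg⟩
    refine Submodule.eq_of_le_of_finrank_eq ?_ ?_
    · rintro _ ⟨x, hx, rfl⟩
      simpa using h i x hx
    · rw [← (Submodule.equivMapOfInjective _ (hinj g) (D i)).finrank_eq, hD.finrank_eq,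
        hD.finrank_eq]
  have hc : ∀ i j : Fin 2, i ≠ j → IsCompl (D i) (D j) := by
    intro i j hij
    have hd : D i ⊓ D j = ⊥ := (hD.indep.pairwiseDisjoint hij).eq_bot
    refine ⟨disjoint_iff.2 hd, codisjoint_iff.2 (Submodule.eq_top_of_finrank_eq ?_)⟩
    have := Submodule.finrank_sup_add_finrank_inf_eq (D i) (D j)
    rw [hd, finrank_bot, hD.finrank_eq, hD.finrank_eq] at this
    rw [Module.finrank_fintype_fun_eq_card, hι]
    omega
  have hP : ∀ i j : Fin 2, i ≠ j → HPol f (D i) (D j) := fun i j hij =>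
    ⟨hts i, hts j, hc i j hij, hD.finrank_eq i, hD.finrank_eq j⟩
  have huhS : ∀ i j : Fin 2, i ≠ j → ∀ u ∈ D i, ∀ v ∈ D j, f u v = 0 → ∀ c : F,
      uh hf u v c ∈ S := by
    intro i j hij u hu v hv huv c
    refine hmemS _ (hG ▸ ⟨uh_mem_iso hf u v c, uh_mem_sl hf u v c⟩) id Function.injective_id
      fun l x hx => ?_
    rw [uh_mulVec hf ⟨hts i u hu u hu, hts j v hv v hv, huv⟩]
    rcases eq_or_ne l i with rfl | hli
    · rw [hts l x hx u hu, mul_zero, zero_smul, add_zero]
      exact (D l).sub_mem hx ((D l).smul_mem _ hu)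
    · have : l = j := by omega
      subst this
      rw [hts l x hx v hv, mul_zero, zero_smul, sub_zero]
      exact (D l).add_mem hx ((D l).smul_mem _ hv)
  have h01 : (0 : Fin 2) ≠ 1 := by decide
  have hne : ∀ i, D i ≠ ⊥ := fun i e => by
    have := hD.finrank_eq i
    rw [e, finrank_bot] at this
    omega
  refine ⟨lt_of_le_of_ne inf_le_right fun hEq => ?_, fun M hSM hMG => ?_⟩
  · obtain ⟨b, hb, hb0⟩ := (D 1).ne_bot_iff.1 (hne 1)
    obtain ⟨l, hl0, hl⟩ := exists_skew_ne_zero hf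
    obtain ⟨⟨y, hy⟩, -⟩ := hf.nondegenerate b hb0
    obtain ⟨p, hp, q, hq, rfl⟩ := (hP 0 1 h01).exists_split y
    rw [u_add_left hf, hts 1 q hq b hb, add_zero] at hy
    have bb : f b b = 0 := hts 1 b hb b hb
    have h : ut hf b l ∈ S :=
      hEq.symm ▸ (hG ▸ ⟨ut_mem_iso hf bb hl, ut_mem_sl hf b l⟩ : ut hf b l ∈ G)
    obtain ⟨τ, hτ⟩ := h.1
    have h1 : (ut hf b l : Matrix ι ι F) *ᵥ p ∈ D (τ 0) := by
      rw [← hτ]; exact ⟨p, hp, by simp⟩
    rw [ut_mulVec hf bb] at h1
    have hp0 : p ≠ 0 := by rintro rfl; exact hy (u_zero_left hf b)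
    have dis := fun x (hx0 : x ∈ D 0) (hx1 : x ∈ D 1) =>
      Submodule.disjoint_def.1 (hc 0 1 h01).disjoint x hx0 hx1
    rcases eq_or_ne (τ 0) 0 with e | e
    · rw [e] at h1
      have := (D 0).sub_mem h1 hp
      rw [add_sub_cancel_left] at this
      exact hb0 ((smul_eq_zero.1 (dis _ this ((D 1).smul_mem _ hb))).resolve_left
        (mul_ne_zero hl0 hy))
    · rw [show τ 0 = 1 by omega] at h1
      have := (D 1).sub_mem h1 ((D 1).smul_mem (l * f p b) hb)
      rw [add_sub_cancel_right] at this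
      exact hp0 (dis p hp this)
  by_cases hM : M ≤ S
  · exact Or.inl (le_antisymm hM hSM)
  refine Or.inr (le_antisymm hMG ?_)
  obtain ⟨g, hgM, hgS⟩ := SetLike.not_le_iff_exists.1 hM
  have hgG := hMG hgM
  have hgi : g ∈ isoGrp f := (hG ▸ hgG).1
  have hShort : ∀ i j : Fin 2, i ≠ j → Short hf (D i) (D j) M := fun i j hij u hu v hv huv c =>
    hSM (huhS i j hij u hu v hv huv c)
  obtain ⟨i, a, ha, hmix⟩ : ∃ i, ∃ a ∈ D i, ∀ j, (g : Matrix ι ι F) *ᵥ a ∉ D j := by
    by_contra hcon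
    push Not at hcon
    have hone : ∀ i, ∃ j, ∀ x ∈ D i, (g : Matrix ι ι F) *ᵥ x ∈ D j := by
      intro i
      by_contra hn
      push Not at hn
      obtain ⟨x, hx, hx0⟩ := hn 0
      obtain ⟨y, hy, hy1⟩ := hn 1
      obtain ⟨l, hl⟩ := hcon i (x + y) ((D i).add_mem hx hy)
      obtain ⟨kx, hkx⟩ := hcon i x hx
      obtain ⟨ky, hky⟩ := hcon i y hy
      have ex : kx = 1 := by
        by_contra h; exact hx0 (by rwa [show kx = 0 by omega] at hkx)
      have ey : ky = 0 := by
        by_contra h; exact hy1 (by rwa [show ky = 1 by omega] at hky)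
      subst ex ey
      rw [mulVec_add] at hl
      rcases eq_or_ne l 0 with rfl | hl0
      · exact hx0 (by simpa using (D 0).sub_mem hl hky)
      · rw [show l = 1 by omega] at hl
        exact hy1 (by simpa using (D 1).sub_mem hl hkx)
    choose τ hτ using hone
    refine hgS (hmemS g hgG τ ?_ hτ)
    intro i j hij
    by_contra hne'
    have hle : (⊤ : Submodule F (ι → F)).map (Matrix.toLin' (g : Matrix ι ι F)) ≤ D (τ i) := by
      rw [← (hc i j hne').sup_eq_top, Submodule.map_sup, sup_le_iff]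
      constructor
      · rintro _ ⟨x, hx, rfl⟩; simpa using hτ i x hx
      · rintro _ ⟨x, hx, rfl⟩; simpa [hij] using hτ j x hx
    have h1 := Submodule.finrank_mono hle
    rw [← (Submodule.equivMapOfInjective _ (hinj g) _).finrank_eq, finrank_top,
      Module.finrank_fintype_fun_eq_card, hι, hD.finrank_eq] at h1
    omega
  obtain ⟨j, hji⟩ : ∃ j : Fin 2, j ≠ i := exists_ne i
  obtain ⟨b, hb, hb0, hab⟩ := exists_perp_one hf (hP i j hji.symm) a
  have hO : OrthIso hf a b := ⟨hts i a ha a ha, hts j b hb b hb, hab⟩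
  have hm' : ∀ c, uh hf ((g : Matrix ι ι F) *ᵥ a) ((g : Matrix ι ι F) *ᵥ b) c ∈ M := fun c => by
    rw [← conj_uh hf hgi hO]
    exact conj_mem hgM (hShort i j hji.symm a ha b hb hab c)
  have hKeep : ∀ i j : Fin 2, i ≠ j → Keep f (D i) (D j) M := fun i j hij k hki hks h1 h2 =>
    hSM (hmemS k (hG ▸ ⟨hki, hks⟩) id Function.injective_id fun l x hx => by
      rcases eq_or_ne l i with rfl | hli
      · exact h1 x hx
      · have : l = j := by omega
        subst this
        exact h2 x hx)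
  have hlong := side_mixed hf (hP 0 1 h01) (hKeep 0 1 h01) hm hm0 hm1 hnorm (hmix 0) (hmix 1)
    (fun t e => hb0 (by
      rw [← mulVec_smul] at e
      have e' := gl_mulVec_injective g e
      exact Submodule.disjoint_def.1 (hc i j hji.symm).disjoint b (e' ▸ (D i).smul_mem t ha) hb))
    (orthIso_map hf hgi hO) hm'
  obtain ⟨l₀, hl⟩ : ∃ l : Fin 2, ∀ v ∈ D l, UtIn hf M v := by
    rcases hlong with ⟨y, hy, hy0, l, hl, hls, h⟩ | ⟨y, hy, hy0, l, hl, hls, h⟩
    · exact ⟨0, utIn_of_one hf (hP 1 0 h01.symm) (hShort 1 0 h01.symm) hy hy0 hl hls h⟩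
    · exact ⟨1, utIn_of_one hf (hP 0 1 h01) (hShort 0 1 h01) hy hy0 hl hls h⟩
  obtain ⟨l₁, hl'⟩ : ∃ l₁, l₁ ≠ l₀ := exists_ne l₀
  have hall2 : ∀ v ∈ D l₁, UtIn hf M v := by
    obtain ⟨w, hw, hws, hw1, hw2⟩ := exists_pol_swap hf (hP l₀ l₁ hl'.symm)
      (by rw [hD.finrank_eq, hD.finrank_eq])
    have hwS : w ∈ S := hmemS w (hG ▸ ⟨hw, hws⟩) (Equiv.swap l₀ l₁) (Equiv.injective _)
      fun i x hx => by
        rcases eq_or_ne i l₀ with rfl | hik
        · rw [Equiv.swap_apply_left]; exact hw1 x hx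
        · have : i = l₁ := by omega
          subst this
          rw [Equiv.swap_apply_right]; exact hw2 x hx
    intro v hv
    obtain ⟨u, hu, rfl⟩ : ∃ u ∈ D l₀, (w : Matrix ι ι F) *ᵥ u = v := by
      have hmap : (D l₀).map (Matrix.toLin' (w : Matrix ι ι F)) = D l₁ := by
        refine Submodule.eq_of_le_of_finrank_eq ?_ ?_
        · rintro _ ⟨x, hx, rfl⟩; simpa using hw1 x hx
        · rw [← (Submodule.equivMapOfInjective _ (hinj w) _).finrank_eq, hD.finrank_eq,
            hD.finrank_eq]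
      rw [← hmap] at hv
      obtain ⟨u, hu, rfl⟩ := hv
      exact ⟨u, hu, by simp⟩
    exact (hl u hu).conj hf (hts l₀ u hu u hu) (hSM hwS) hw
  refine hgen M fun x hx => ?_
  obtain ⟨p, hp, q, hq, rfl⟩ := (hP l₀ l₁ hl'.symm).exists_split x
  have pp := hts l₀ p hp p hp
  have qq := hts l₁ q hq q hq
  by_cases hpq : f p q = 0
  · intro l hls
    have e : ut hf (p + q) l = uh hf p q l * ut hf q l * ut hf p l := by
      refine gl_ext fun x => ?_
      simp only [mul_mulVec, ut_mulVec hf hx, ut_mulVec hf pp, ut_mulVec hf qq,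
        uh_mulVec hf (show OrthIso hf p q from ⟨pp, qq, hpq⟩), u_add_left hf, u_add_right hf,
        u_smul_left hf, pp, qq, hpq, u_symm_zero hf hpq, hls]
      module
    rw [e]
    exact M.mul_mem (M.mul_mem (hShort l₀ l₁ hl'.symm p hp q hq hpq l) (hall2 q hq l hls))
      (hl p hp l hls)
  · have hskew : σ (f p q)⁻¹ = -(f p q)⁻¹ := by
      have h0 := hx
      simp only [u_add_left hf, u_add_right hf, pp, qq, zero_add, add_zero] at h0
      rw [map_inv₀, u_conj hf, show f q p = -f p q by linear_combination h0, inv_neg]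
    have := (hl p hp).conj hf pp (hall2 q hq _ hskew) (ut_mem_iso hf qq hskew)
    rwa [ut_mulVec hf qq, inv_mul_cancel₀ hpq, one_smul] at this

/-- Clause (5). -/
theorem halves_maximal {F : Type*} [Field F] [Fintype F] (q : ℕ) (hF : Fintype.card F = q ^ 2) (hq : 4 ≤ q)
    (D : Fin 2 → Submodule F (Fin 4 → F)) (hD : Cfsg.Geo.IsMDecomposition 2 D)
    (hts : ∀ i, Cfsg.Geo.IsTotallySingularFor (Cfsg.hermForm 4 F q) (D i)) :
    Cfsg.Geo.IsMaximalIn (Cfsg.GU 4 F q ⊓ Cfsg.Geo.specialLinear (Fin 4) F)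
      (Cfsg.Geo.decompositionStabilizer D ⊓ (Cfsg.GU 4 F q ⊓ Cfsg.Geo.specialLinear (Fin 4) F)) := by
  classical
  obtain ⟨σ, hσ, hf⟩ := isUnitaryForm_hermForm (n := 4) hF
  obtain ⟨m, hm0, hm1⟩ : ∃ m : Unitary.fixK hF, m ≠ 0 ∧ m * m ≠ 1 := by
    letI := Fintype.ofFinite (Unitary.fixK hF)
    have : 0 < (Finset.univ \ ({0, 1, -1} : Finset (Unitary.fixK hF))).card := by
      have h1 := Finset.le_card_sdiff ({0, 1, -1} : Finset (Unitary.fixK hF)) Finset.univ
      have h3 : ({0, 1, -1} : Finset (Unitary.fixK hF)).card ≤ 3 := Finset.card_le_three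
      rw [Finset.card_univ, ← Nat.card_eq_fintype_card, Unitary.card_fixK hF] at h1
      omega
    obtain ⟨m, hm⟩ := Finset.card_pos.1 this
    simp only [Finset.mem_sdiff, Finset.mem_insert, Finset.mem_singleton, not_or] at hm
    exact ⟨m, hm.2.1, fun h => (mul_self_eq_one_iff.1 h).elim hm.2.2.1 hm.2.2.2⟩
  exact isMaximalIn_halves_two (by simp) hf D hD hts _ rfl (m := (m : F))
    (by rw [hσ]; exact (Unitary.mem_fixK hF).1 m.2) (fun h => hm0 (Subtype.ext h)) (fun h => hm1 (Subtype.ext h))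
    (fun r hr => by
      obtain ⟨s, hs⟩ := Unitary.exists_norm_eq hF (a := r) (by rw [← hσ, hr])
      exact ⟨s, by rw [hσ]; exact hs⟩)
    fun M h => su_le_of_ut hF le_rfl hσ hf h

end Cfsg.Agent.H12.SUFour.Halves
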