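import Cfsg.Agent.H12.CSix.Four.Core
import Cfsg.Agent.H69.SLFour.PauliBase
import Cfsg.Agent.H73.Pauli.Unitary

/-!
The clause on symplectic-type groups in SU_4(p).
-/

set_option autoImplicit false

namespace Cfsg.Agent.H12.SUFour

open Matrix Cfsg.Agent.H73.Pauli Cfsg.Agent.H12.CSix.Four
open scoped MatrixGroups

variable {F : Type*} [Field F] [Fintype F]

/-- A group of the standard data inside the unitary group is a unitary conjugate of the standard one. -/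
theorem exists_conj_std {p : ℕ} (hF : Fintype.card F = p ^ 2) (hp : p.Prime) (hp4 : p % 4 = 3)
    {R : Subgroup (GL (Fin 4) F)} (hRs : Cfsg.Geo.IsSymplecticTypeGroup 2 R)
    (hRi : Cfsg.Geo.ActsAbsolutelyIrreducibly (Cfsg.Geo.matrixSet R)) (hRU : R ≤ Cfsg.GU 4 F p)
    (hR : Nat.card R = 64) (hZ : Nat.card (Subgroup.center R) = 4) :
    ∃ (S : U4 F p) (P : GL (Fin 4) F), P ∈ Cfsg.GU 4 F p ∧ S.Std.map (MulAut.conj P).toMonoidHom = R := by
  classical
  haveI := Fact.mk hp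
  haveI : CharP F p := by
    haveI := Fact.mk hp
    exact charP_of_card_eq_prime_pow hF
  obtain ⟨i, hd⟩ := exists_pauliData (p := p) (by omega) R hRs hRi (by rw [hR]; norm_num) hZ
  obtain ⟨P, hPU, hP⟩ := exists_unitary_frame hF hd hRU
  let S : U4 F p := ⟨hF, hp, hp4, i, hd.i_sq⟩
  refine ⟨S, P, hPU, ?_⟩
  set φ : GL (Fin 4) F ≃* GL (Fin 4) F := MulAut.conj P with hφ
  have key : ∀ {x : GL (Fin 4) F}, (∃ g ∈ R, (g : Matrix (Fin 4) (Fin 4) F) * (P : Matrix (Fin 4) (Fin 4) F) =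
      (P : Matrix (Fin 4) (Fin 4) F) * (x : Matrix (Fin 4) (Fin 4) F)) → φ x ∈ R := fun {x} h => by
    obtain ⟨g, hg, e⟩ := h
    have e' : g * P = P * x := Units.ext e
    rw [hφ, MulAut.conj_apply, ← e', mul_inv_cancel_right]
    exact hg
  have hgen : ∀ k, φ (S.gens k) ∈ R := fun k => by
    fin_cases k
    · exact key hP.a1
    · exact key hP.b1
    · exact key hP.a2
    · exact key hP.b2
    · show φ S.gI ∈ R
      rw [hφ, MulAut.conj_apply, show P * S.gI = S.gI * P from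
        ((IsScalar.commute ⟨i, rfl⟩ P).eq).symm, mul_inv_cancel_right]
      exact hd.imem _ rfl
  refine le_antisymm (by
    rw [Subgroup.map_le_iff_le_comap, U4.Std, Subgroup.closure_le]
    rintro _ ⟨k, rfl⟩
    exact hgen k) (hP.gen _ (fun g hg hs => ?_) fun g hg s hs hgs => ?_)
  · obtain ⟨c, hc⟩ := hs
    refine ⟨g, ?_, by rw [MulEquiv.coe_toMonoidHom, hφ, MulAut.conj_apply, ← (IsScalar.commute ⟨c, hc⟩ P).eq,
      mul_inv_cancel_right]⟩
    have hI2 : S.gI * S.gI = -1 := Units.ext (by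
      rw [Units.val_mul, Units.val_neg, Units.val_one]
      show (i • (1 : Matrix (Fin 4) (Fin 4) F)) * (i • 1) = -1
      rw [Matrix.smul_mul, one_mul, smul_smul, hd.i_sq, neg_one_smul])
    have hpow : ∃ k : ℕ, g = S.gI ^ k := by
      rcases scalar_mem_cases hd hg hc with rfl | rfl | rfl | rfl
      · exact ⟨0, Units.ext (by rw [hc, pow_zero, one_smul]; rfl)⟩
      · exact ⟨2, Units.ext (by rw [hc, pow_two, hI2, neg_one_smul, Units.val_neg, Units.val_one])⟩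
      · exact ⟨1, Units.ext (by rw [hc, pow_one]; rfl)⟩
      · exact ⟨3, Units.ext (by rw [hc, pow_succ, pow_two, hI2, neg_one_mul, Units.val_neg, neg_smul]; rfl)⟩
    obtain ⟨k, rfl⟩ := hpow
    exact pow_mem (S.gens_mem 4) k
  · refine ⟨P⁻¹ * g * P, ?_, by rw [MulEquiv.coe_toMonoidHom, hφ, MulAut.conj_apply]; group⟩
    have e : ((P⁻¹ * g * P : GL (Fin 4) F) : Matrix (Fin 4) (Fin 4) F) = s := by
      rw [Units.val_mul, Units.val_mul, mul_assoc, hgs, ← mul_assoc, Units.inv_mul, one_mul]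
    simp only [Set.mem_insert_iff, Set.mem_singleton_iff] at hs
    rcases hs with rfl | rfl | rfl | rfl
    · rw [show P⁻¹ * g * P = CSix.Four.gA1 from Units.ext e]; exact S.gens_mem 0
    · rw [show P⁻¹ * g * P = CSix.Four.gB1 from Units.ext e]; exact S.gens_mem 1
    · rw [show P⁻¹ * g * P = CSix.Four.gA2 from Units.ext e]; exact S.gens_mem 2
    · rw [show P⁻¹ * g * P = CSix.Four.gB2 from Units.ext e]; exact S.gens_mem 3

/-- Clause (9). -/
theorem pauli_maximal (q : ℕ) (hF : Fintype.card F = q ^ 2) (p : ℕ) (R : Subgroup (GL (Fin 4) F)) (hp : p.Prime)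
    (hq : q = p) (hp4 : p % 4 = 3) (hRs : Cfsg.Geo.IsSymplecticTypeGroup 2 R)
    (hRi : Cfsg.Geo.ActsAbsolutelyIrreducibly (Cfsg.Geo.matrixSet R)) (hRU : R ≤ Cfsg.GU 4 F q)
    (hR : Nat.card R = 64) (hZ : Nat.card (Subgroup.center R) = 4) :
    Cfsg.Geo.IsMaximalIn (Cfsg.GU 4 F q ⊓ Cfsg.Geo.specialLinear (Fin 4) F)
      (Cfsg.Geo.subgroupNormalizer R ⊓ (Cfsg.GU 4 F q ⊓ Cfsg.Geo.specialLinear (Fin 4) F)) := by
  classical
  subst hq
  obtain ⟨S, P, hPU, hmap⟩ := exists_conj_std hF hp hp4 hRs hRi hRU hR hZ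
  set φ : GL (Fin 4) F ≃* GL (Fin 4) F := MulAut.conj P with hφ
  have hG : ∀ g, φ g ∈ G4 F q ↔ g ∈ G4 F q := fun g => by
    haveI : (Cfsg.Geo.specialLinear (Fin 4) F).Normal := by unfold Cfsg.Geo.specialLinear; infer_instance
    rw [hφ, MulAut.conj_apply]
    refine ⟨fun h => ⟨?_, ?_⟩, fun h => ⟨(Cfsg.GU 4 F q).mul_mem ((Cfsg.GU 4 F q).mul_mem hPU h.1) ((Cfsg.GU 4 F q).inv_mem hPU),
      Subgroup.Normal.conj_mem inferInstance _ h.2 P⟩⟩
    · have := (Cfsg.GU 4 F q).mul_mem ((Cfsg.GU 4 F q).mul_mem ((Cfsg.GU 4 F q).inv_mem hPU) h.1) hPU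
      rwa [show P⁻¹ * (P * g * P⁻¹) * P = g by group] at this
    · simpa [mul_assoc] using Subgroup.Normal.conj_mem inferInstance _ h.2 P⁻¹
  have hN : ∀ g, φ g ∈ Cfsg.Geo.subgroupNormalizer R ↔ g ∈ S.NS := fun g => by
    rw [Cfsg.Geo.subgroupNormalizer, U4.NS, Cfsg.Geo.subgroupNormalizer, Subgroup.mem_normalizer_iff,
      Subgroup.mem_normalizer_iff, φ.surjective.forall]
    refine forall_congr' fun x => ?_
    rw [← hmap, ← map_inv, ← map_mul, ← map_mul]
    exact iff_congr (Subgroup.mem_map_iff_mem φ.injective) (Subgroup.mem_map_iff_mem φ.injective)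
  obtain ⟨hlt, hmax⟩ := S.maximal
  refine ⟨lt_of_le_of_ne inf_le_right fun h => hlt.ne (le_antisymm inf_le_right fun g hg => ?_), fun M hle hMG => ?_⟩
  · have : φ g ∈ Cfsg.Geo.subgroupNormalizer R ⊓ G4 F q := by rw [show Cfsg.Geo.subgroupNormalizer R ⊓ G4 F q = _ from h]; exact (hG g).2 hg
    exact ⟨(hN g).1 this.1, hg⟩
  have hM' := hmax (M.comap φ.toMonoidHom) (fun g hg => hle ⟨(hN g).2 hg.1, (hG g).2 hg.2⟩)
    fun g hg => (hG g).1 (hMG hg)
  rcases hM' with h | h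
  · refine Or.inl (le_antisymm (fun g hg => ?_) hle)
    obtain ⟨g, rfl⟩ := φ.surjective g
    have : g ∈ M.comap φ.toMonoidHom := hg
    rw [h] at this
    exact ⟨(hN g).2 this.1, (hG g).2 this.2⟩
  · refine Or.inr (le_antisymm hMG fun g hg => ?_)
    obtain ⟨g, rfl⟩ := φ.surjective g
    have : g ∈ M.comap φ.toMonoidHom := h ▸ (hG g).1 hg
    exact this

end Cfsg.Agent.H12.SUFour
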