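import Cfsg.Agent.H58.SUSmall.NondegSpace

/-!
The clause on non-degenerate one-spaces in SU_n(q), n ≥ 4.
-/

set_option autoImplicit false
open Cfsg

namespace Cfsg.Agent.H12.SUFour

open scoped MatrixGroups Matrix
open Matrix Cfsg.Agent.H95 Cfsg.Agent.Symplectic

variable {F : Type*} [Field F] [Fintype F] {n q : ℕ}

/-- Two orthonormal pairs with the same first vector are moved to each other with determinant one. -/
theorem exists_move_sl (hF : Fintype.card F = q ^ 2) (hn : 3 ≤ n) {a b b' : Fin n → F}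
    (hb : Unitary.ON q ![a, b]) (hb' : Unitary.ON q ![a, b']) :
    ∃ h : GL (Fin n) F, h ∈ GU n F q ∧ h ∈ Geo.specialLinear (Fin n) F ∧
      (h : Matrix (Fin n) (Fin n) F) *ᵥ a = a ∧ (h : Matrix (Fin n) (Fin n) F) *ᵥ b = b' := by
  classical
  let e : Fin 2 ⊕ Fin (n - Fintype.card (Fin 2)) ≃ Fin n :=
    finSumFinEquiv.trans (finCongr (by simp; omega))
  have frame : ∀ {c : Fin n → F}, Unitary.ON q ![a, c] → ∃ P : GL (Fin n) F, P ∈ GU n F q ∧
      (P : Matrix (Fin n) (Fin n) F) *ᵥ Pi.single (e (.inl 0)) 1 = a ∧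
      (P : Matrix (Fin n) (Fin n) F) *ᵥ Pi.single (e (.inl 1)) 1 = c := by
    intro c hc
    obtain ⟨g, hg, -⟩ := hc.exists_extend hF
    obtain ⟨⟨P, hP⟩, hPe⟩ := Unitary.exists_GU_of_ON hF (f := Sum.elim ![a, c] g ∘ e.symm) (fun i j => by
      simp only [Function.comp]
      rw [hg]
      simp only [e.symm.injective.eq_iff])
    exact ⟨P, hP, by simpa using hPe (e (.inl 0)), by simpa using hPe (e (.inl 1))⟩
  obtain ⟨P, hP, hPa, hPb⟩ := frame hb
  obtain ⟨P', hP', hPa', hPb'⟩ := frame hb'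
  set δ : Fˣ := Matrix.GeneralLinearGroup.det P * (Matrix.GeneralLinearGroup.det P')⁻¹
  set m : Fin n := e (.inr ⟨0, by simp; omega⟩)
  set d : Fin n → F := fun i => if i = m then (δ : F) else 1 with hd
  have nrm : ∀ {Q : GL (Fin n) F}, Q ∈ GU n F q →
      (Matrix.GeneralLinearGroup.det Q : F) * (Matrix.GeneralLinearGroup.det Q : F) ^ q = 1 := fun {Q} hQ => by
    rw [Matrix.GeneralLinearGroup.val_det_apply]
    exact (Unitary.mem_GU_iff.1 hQ).det_norm hF
  have hdn : ∀ i, d i * d i ^ q = 1 := fun i => by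
    simp only [d]
    split_ifs
    · simp only [δ, Units.val_mul, Units.val_inv_eq_inv_val, mul_pow, inv_pow]
      rw [mul_mul_mul_comm, nrm hP, ← mul_inv, nrm hP', inv_one, one_mul]
    · simp
  have hD : Unitary.Preserves q (Matrix.diagonal d) := by
    rw [Unitary.preserves_iff_transpose_mul hF]
    ext i j
    rw [Matrix.diagonal_transpose, Matrix.diagonal_mul]
    rcases eq_or_ne i j with rfl | hij
    · simp [hdn i]
    · simp [hij, zero_pow (Unitary.q_ne_zero hF)]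
  obtain ⟨D, hDU, hDv⟩ : ∃ D : GL (Fin n) F, D ∈ GU n F q ∧ (D : Matrix (Fin n) (Fin n) F) = Matrix.diagonal d :=
    ⟨_, (Unitary.toGU hF hD).2, Unitary.coe_toGU hF hD⟩
  have hfix : ∀ k : Fin 2, (D : Matrix (Fin n) (Fin n) F) *ᵥ Pi.single (e (.inl k)) 1 = Pi.single (e (.inl k)) 1 := by
    intro k
    rw [hDv]
    funext i
    rw [Matrix.mulVec_diagonal]
    rcases eq_or_ne i (e (.inl k)) with rfl | hi
    · simp [d, m, e.injective.eq_iff]
    · simp [hi]
  refine ⟨P' * D * P⁻¹, Subgroup.mul_mem _ (Subgroup.mul_mem _ hP' hDU) (Subgroup.inv_mem _ hP), ?_, ?_, ?_⟩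
  · refine MonoidHom.mem_ker.2 ?_
    rw [map_mul, map_mul, map_inv, mul_inv_eq_one]
    have hdet : Matrix.GeneralLinearGroup.det D = δ := Units.ext (by
      rw [Matrix.GeneralLinearGroup.val_det_apply, hDv, Matrix.det_diagonal,
        Finset.prod_eq_single m (fun i _ hi => by simp [d, hi]) (by simp)]
      simp [d])
    rw [hdet]
    simp [δ, mul_comm (Matrix.GeneralLinearGroup.det P)]
  · conv_lhs => rw [← hPa]
    rw [mul_mulVec, mul_mulVec, inv_mulVec_mulVec, hfix, hPa']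
  · conv_lhs => rw [← hPb]
    rw [mul_mulVec, mul_mulVec, inv_mulVec_mulVec, hfix, hPb']

/-- Clause (2). -/
theorem point_maximal (hn : 4 ≤ n) (q : ℕ) (hF : Fintype.card F = q ^ 2) (W : Submodule F (Fin n → F))
    (hW0 : W ≠ ⊥) (hW' : Cfsg.Geo.IsNondegenerateOn (Cfsg.hermForm n F q) W) (hdim : Module.finrank F W = 1) :
    Cfsg.Geo.IsMaximalIn (Cfsg.GU n F q ⊓ Cfsg.Geo.specialLinear (Fin n) F)
      (Cfsg.Geo.subspaceStabilizer W ⊓ (Cfsg.GU n F q ⊓ Cfsg.Geo.specialLinear (Fin n) F)) := by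
  obtain ⟨σ, hσ, hf⟩ := isUnitaryForm_hermForm (n := n) hF
  have hW : Unitary.Nondeg q W := fun u hu h => by
    by_contra hu0
    obtain ⟨x, hx, hux⟩ := (hW' u hu hu0).2
    exact hux (h x hx)
  set f := Cfsg.hermForm n F q with hfdef
  set U := Unitary.perp q (W : Set (Fin n → F)) with hUdef
  have hU : Unitary.Nondeg q U := Unitary.nondeg_perp hF hW
  have hsum := Unitary.finrank_perp_add hF hW
  rw [← hUdef, hdim] at hsum
  have hUW : ∀ u ∈ U, ∀ w ∈ W, f u w = 0 ∧ f w u = 0 := fun u hu w hw =>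
    ⟨hu w hw, u_symm_zero hf (hu w hw)⟩
  have split : ∀ x, ∃ a ∈ W, ∃ b ∈ U, a + b = x := fun x =>
    Submodule.mem_sup.1 ((Unitary.isCompl_perp hF hW).sup_eq_top.symm ▸ Submodule.mem_top (x := x))
  have hdis : ∀ x ∈ W, x ∈ U → x = 0 := fun x h1 h2 =>
    Submodule.disjoint_def.1 (Unitary.isCompl_perp hF hW).disjoint x h1 h2
  obtain ⟨a, ha, haa⟩ := Unitary.exists_norm_one hF hW hW0
  rw [← hfdef] at haa
  have ha0 : a ≠ 0 := fun h => by rw [h, u_zero_left hf] at haa; exact zero_ne_one haa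
  have hWa : ∀ x ∈ W, ∃ t : F, t • a = x := fun x hx => by
    have : F ∙ a = W := Submodule.eq_of_le_of_finrank_le
      ((Submodule.span_singleton_le_iff_mem _ _).2 ha) (by rw [finrank_span_singleton ha0, hdim])
    rw [← this] at hx
    exact Submodule.mem_span_singleton.1 hx
  refine ⟨lt_of_le_of_ne inf_le_right fun hEq => ?_, fun M hSM hMG => ?_⟩
  · obtain ⟨b, hb, hbb⟩ := Unitary.exists_norm_one hF hU (by
      intro h; rw [h, finrank_bot] at hsum; omega)
    rw [← hfdef] at hbb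
    obtain ⟨c, hc⟩ := Unitary.exists_norm_eq_neg_one hF
    set v := a + c • b with hv
    have hvv : f v v = 0 := by
      simp only [hv, u_add_left hf, u_add_right hf, u_smul_left hf, u_smul_right hf,
        (hUW b hb a ha).1, (hUW b hb a ha).2, haa, hbb, hσ]
      linear_combination hc
    obtain ⟨d, hd0, hd⟩ := exists_skew_ne_zero hf
    have hmem : ut hf v d ∈ Geo.subspaceStabilizer W ⊓ (GU n F q ⊓ Geo.specialLinear (Fin n) F) :=
      hEq.symm ▸ (⟨ut_mem_iso hf hvv hd, ut_mem_sl hf v d⟩ : ut hf v d ∈ GU n F q ⊓ Geo.specialLinear (Fin n) F)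
    have h1 := (mem_subspaceStabilizer.1 hmem.1 a).1 ha
    rw [ut_mulVec hf hvv, W.add_mem_iff_right ha] at h1
    have hne : d * f a v ≠ 0 := by
      rw [hv, u_add_right hf, u_smul_right hf, (hUW b hb a ha).2, haa]
      simpa using hd0
    have hvW := W.smul_mem (d * f a v)⁻¹ h1
    rw [inv_smul_smul₀ hne, hv, W.add_mem_iff_right ha] at hvW
    have h0 := hdis _ hvW (U.smul_mem c hb)
    rw [smul_eq_zero] at h0
    rcases h0 with h | h
    · rw [h, zero_mul] at hc; exact one_ne_zero (neg_eq_zero.1 hc.symm)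
    · rw [h, u_zero_left hf] at hbb; exact zero_ne_one hbb
  by_cases hM : M ≤ Geo.subspaceStabilizer W ⊓ (GU n F q ⊓ Geo.specialLinear (Fin n) F)
  · exact Or.inl (le_antisymm hM hSM)
  obtain ⟨g, hgM, hgS⟩ := SetLike.not_le_iff_exists.1 hM
  have hiso : ∀ k ∈ M, k ∈ isoGrp f := fun k hk => (hMG hk).1
  have hgi := hiso g hgM
  have utU : ∀ v ∈ U, f v v = 0 → UtIn hf M v := fun v hv hvv l hl => by
    refine hSM ⟨mem_stab_of_forward fun x hx => ?_, ⟨ut_mem_iso hf hvv hl, ut_mem_sl hf v l⟩⟩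
    rw [ut_mulVec hf hvv, (hUW v hv x hx).2, mul_zero, zero_smul, add_zero]
    exact hx
  -- a mixed vector
  obtain ⟨v₀, hv₀v₀, hv₀M, hv₀U⟩ : ∃ v, f v v = 0 ∧ UtIn hf M v ∧ v ∉ U := by
    by_contra hcon
    push Not at hcon
    apply hgS
    have hgU : g ∈ Geo.subspaceStabilizer U := mem_stab_of_forward <|
      Unitary.exists_add_isotropic hF hU (by omega)
        (fun u hu huu => hcon _ (by rw [mem_isoGrp.1 hgi]; exact huu) ((utU u hu huu).conj hf huu hgM hgi))
        fun w _ w' _ h1 h2 => by rw [mulVec_add]; exact U.add_mem h1 h2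
    refine ⟨mem_stab_of_forward fun w hw => ?_, hMG hgM⟩
    obtain ⟨a', ha', b, hb, hab⟩ := split ((g : Matrix (Fin n) (Fin n) F) *ᵥ w)
    have : b = 0 := hU b hb fun u hu => by
      have hu' : ((g⁻¹ : GL (Fin n) F) : Matrix (Fin n) (Fin n) F) *ᵥ u ∈ U := by
        rw [mem_subspaceStabilizer.1 hgU, mulVec_inv_mulVec]; exact hu
      have h2 : f ((g : Matrix (Fin n) (Fin n) F) *ᵥ w) u = 0 := by
        conv_lhs => rw [← mulVec_inv_mulVec g u]
        rw [mem_isoGrp.1 hgi]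
        exact (hUW _ hu' w hw).2
      rwa [← hab, u_add_left hf, (hUW u hu a' ha').2, zero_add] at h2
    rw [← hab, this, add_zero]
    exact ha'
  -- normalise the first coordinate
  obtain ⟨c, hc⟩ := Unitary.exists_norm_eq_neg_one hF
  have hc0 : c ≠ 0 := by rintro rfl; simp at hc
  have norm' : ∀ v, f v v = 0 → v ∉ U → ∃ (s : F) (b : Fin n → F), b ∈ U ∧ Unitary.ON q ![a, b] ∧
      s • (a + c • b) = v := by
    intro v hvv hvU
    obtain ⟨a', ha', b, hb, rfl⟩ := split v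
    obtain ⟨s, rfl⟩ := hWa a' ha'
    have hs : s ≠ 0 := fun h => hvU (by rw [h, zero_smul, zero_add]; exact hb)
    refine ⟨s, (s * c)⁻¹ • b, U.smul_mem _ hb, ?_, ?_⟩
    · simp only [u_add_left hf, u_add_right hf, u_smul_left hf, u_smul_right hf, haa,
        (hUW b hb a ha).1, (hUW b hb a ha).2, hσ] at hvv
      have hbb : f b b = -(s * s ^ q) := by linear_combination hvv
      intro i j
      rw [← hfdef]
      fin_cases i <;> fin_cases j <;> simp [u_smul_left hf, u_smul_right hf, haa, (hUW b hb a ha).1,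
        (hUW b hb a ha).2, hσ, hbb]
      have hsc : (s * c) * (s * c) ^ q = -(s * s ^ q) := by rw [mul_pow]; linear_combination (s * s ^ q) * hc
      have hcq : c ^ q ≠ 0 := pow_ne_zero _ hc0
      have hsq : s ^ q ≠ 0 := pow_ne_zero _ hs
      simp only [mul_pow, inv_pow]
      field_simp
      linear_combination -hc
    · rw [smul_add, smul_smul, smul_smul, mul_inv_cancel₀ (mul_ne_zero hs hc0), one_smul]
  obtain ⟨s₀, b₀, hb₀, hON₀, rfl⟩ := norm' v₀ hv₀v₀ hv₀U
  have hs₀ : s₀ ≠ 0 := fun h => hv₀U (by rw [h, zero_smul]; exact U.zero_mem)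
  have hw₀ : f (a + c • b₀) (a + c • b₀) = 0 := by
    simp only [u_smul_left hf, u_smul_right hf] at hv₀v₀
    exact (mul_eq_zero.1 ((mul_eq_zero.1 hv₀v₀).resolve_left hs₀)).resolve_left
      fun h => hs₀ ((map_eq_zero_iff σ σ.injective).1 h)
  have hU₀ : UtIn hf M (a + c • b₀) := by
    have := hv₀M.smul hf hv₀v₀ s₀⁻¹
    rwa [inv_smul_smul₀ hs₀] at this
  refine Or.inr (le_antisymm hMG (su_le_of_ut hF hn hσ hf fun x hxx => ?_))
  by_cases hxU : x ∈ U
  · exact utU x hxU hxx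
  obtain ⟨s, b, hb, hON, rfl⟩ := norm' x hxx hxU
  obtain ⟨h, hhU, hhS, hha, hhb⟩ := exists_move_sl hF (by omega) hON₀ hON
  have hh : h ∈ M := hSM ⟨mem_stab_of_forward fun w hw => by
    obtain ⟨t, rfl⟩ := hWa w hw
    rw [mulVec_smul, hha]
    exact hw, hhU, hhS⟩
  have h1 := hU₀.conj hf hw₀ hh hhU
  rw [mulVec_add, mulVec_smul, hha, hhb] at h1
  exact h1.smul hf (by
    have := mem_isoGrp.1 (hiso h hh) (a + c • b₀) (a + c • b₀)
    rwa [mulVec_add, mulVec_smul, hha, hhb, hw₀] at this) s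

end Cfsg.Agent.H12.SUFour
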