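import Cfsg.Agent.S5660

/-!
A symplectic fixed-field structure of a unitary form in dimension at least three: maximality of its group.
-/

set_option autoImplicit false

namespace Cfsg.Agent.H12.SUFour

open scoped MatrixGroups Matrix
open Matrix Cfsg.Agent.H95 Cfsg.Agent.Symplectic Cfsg.Agent.S5650

section
variable {ι : Type} [Fintype ι] [DecidableEq ι] {F : Type*} [Field F] {σ : F ≃+* F} {f : (ι → F) → (ι → F) → F}
  {F₀ : Subfield F} {ζ : F} {P : GL ι F} {M : Subgroup (GL ι F)}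

namespace HAlt

/-- a non-zero rational vector orthogonal to two rational ones -/
theorem exists_perp2 (H : HAlt σ f F₀ ζ P) (hn : 3 ≤ Fintype.card ι) {a b : ι → F} (ha : a ∈ V0 F₀ P)
    (hb : b ∈ V0 F₀ P) :
    ∃ r ∈ V0 F₀ P, r ≠ 0 ∧ f r a = 0 ∧ f r b = 0 := by
  have hf := H.herm
  let emb : (ι → F₀) → (ι → F) := fun u => (P : Matrix ι ι F) *ᵥ fun i => (u i : F)
  have hmem : ∀ u, emb u ∈ V0 F₀ P := fun u i => by
    simp only [emb, inv_mulVec_mulVec]; exact (u i).2
  let w : Fin 2 → ι → F := ![a, b]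
  have hw : ∀ k, w k ∈ V0 F₀ P := fun k => by fin_cases k <;> assumption
  let L : (ι → F₀) →ₗ[F₀] (Fin 2 → F₀) :=
    { toFun := fun u k => ⟨ζ * f (emb u) (w k), H.rat _ (hmem u) _ (hw k)⟩
      map_add' := fun x y => funext fun k => Subtype.ext (by
        change ζ * f ((P : Matrix ι ι F) *ᵥ fun i => ((x + y) i : F)) (w k) = _
        rw [show (fun i => ((x + y) i : F)) = (fun i => (x i : F)) + fun i => (y i : F) from rfl,
          mulVec_add, u_add_left hf, mul_add]
        rfl)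
      map_smul' := fun r x => funext fun k => Subtype.ext (by
        change ζ * f ((P : Matrix ι ι F) *ᵥ fun i => ((r • x) i : F)) (w k) = _
        rw [show (fun i => ((r • x) i : F)) = (r : F) • fun i => (x i : F) from rfl,
          mulVec_smul, u_smul_left hf, mul_left_comm]
        rfl) }
  have hne : L.ker ≠ ⊥ := by
    intro hb
    have := LinearMap.finrank_le_finrank_of_injective (LinearMap.ker_eq_bot.1 hb)
    rw [Module.finrank_fin_fun, Module.finrank_fintype_fun_eq_card] at this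
    omega
  obtain ⟨u, hu, hu0⟩ := L.ker.ne_bot_iff.1 hne
  have e : ∀ k, f (emb u) (w k) = 0 := fun k =>
    (mul_eq_zero.1 (congrArg Subtype.val (congrFun (LinearMap.mem_ker.1 hu) k))).resolve_left
      H.zeta_ne
  refine ⟨emb u, hmem u, fun h0 => hu0 ?_, e 0, e 1⟩
  funext i
  apply Subtype.ext
  have h1 : (fun i => (u i : F)) = 0 := by
    rw [← inv_mulVec_mulVec P fun i => (u i : F), show (P : Matrix ι ι F) *ᵥ (fun i => (u i : F)) = 0
      from h0, mulVec_zero]
  exact congrFun h1 i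

/-- move the first vector of an orthogonal pair -/
theorem exists_pair_move4 (H : HAlt σ f F₀ ζ P) (hR : H.RatUt M) {a a' b : ι → F}
    (ha : a ∈ V0 F₀ P) (ha' : a' ∈ V0 F₀ P) (hb : b ∈ V0 F₀ P) (hab : f a b = 0) (hab' : f a' b = 0)
    (hia : ∀ t : F, a ≠ t • b) (hia' : ∀ t : F, a' ≠ t • b) :
    ∃ g ∈ M, g ∈ isoGrp f ∧ (g : Matrix ι ι F) *ᵥ a = a' ∧ (g : Matrix ι ι F) *ᵥ b = b := by
  have hf := H.herm
  have step : ∀ x ∈ V0 F₀ P, ∀ y ∈ V0 F₀ P, f x b = 0 → f y b = 0 → f x y ≠ 0 →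
      ∃ g ∈ M, g ∈ isoGrp f ∧ (g : Matrix ι ι F) *ᵥ x = y ∧ (g : Matrix ι ι F) *ᵥ b = b := by
    intro x hx y hy hxb hyb hxy
    have hz : y - x ∈ V0 F₀ P := (V0 F₀ P).sub_mem hy hx
    have zz := H.alt _ hz
    have hsk : σ (f x y)⁻¹ = -(f x y)⁻¹ := by rw [map_inv₀, (H.skew hx hy).2, inv_neg]
    refine ⟨ut hf (y - x) (f x y)⁻¹, hR _ hz _ hsk, ut_mem_iso hf zz hsk, ?_, ?_⟩
    · rw [ut_mulVec hf zz, u_sub_right hf, H.alt x hx, sub_zero, inv_mul_cancel₀ hxy, one_smul]
      abel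
    · rw [ut_mulVec hf zz, u_sub_right hf, u_symm_zero hf hyb, u_symm_zero hf hxb]; simp
  by_cases h : f a a' = 0
  swap
  · exact step a ha a' ha' hab hab' h
  obtain ⟨z1, hz1, k1, l1⟩ := H.exists_dual2 ha hb hia
  obtain ⟨z2, hz2, k2, l2⟩ := H.exists_dual2 ha' hb hia'
  obtain ⟨z, hz, hzb, hza, hza'⟩ : ∃ z ∈ V0 F₀ P, f z b = 0 ∧ f z a ≠ 0 ∧ f z a' ≠ 0 := by
    have n1 : f z1 a ≠ 0 := fun h => by rw [h, mul_zero] at l1; exact zero_ne_one l1
    have n2 : f z2 a' ≠ 0 := fun h => by rw [h, mul_zero] at l2; exact zero_ne_one l2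
    by_cases c1 : f z1 a' = 0
    · by_cases c2 : f z2 a = 0
      · exact ⟨z1 + z2, (V0 F₀ P).add_mem hz1 hz2, by rw [u_add_left hf, k1, k2, add_zero],
          by rwa [u_add_left hf, c2, add_zero], by rwa [u_add_left hf, c1, zero_add]⟩
      · exact ⟨z2, hz2, k2, c2, n2⟩
    · exact ⟨z1, hz1, k1, n1, c1⟩
  obtain ⟨g1, g1M, g1i, e1, f1⟩ := step a ha z hz hab hzb fun h => hza (u_symm_zero hf h)
  obtain ⟨g2, g2M, g2i, e2, f2⟩ := step z hz a' ha' hzb hab' hza'
  exact ⟨g2 * g1, M.mul_mem g2M g1M, Subgroup.mul_mem _ g2i g1i, by rw [mul_mulVec, e1, e2],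
    by rw [mul_mulVec, f1, f2]⟩

/-- one non-rational isotropic transvection vector gives all -/
theorem utIn_all4 (H : HAlt σ f F₀ ζ P) (hn : 3 ≤ Fintype.card ι) (hR : H.RatUt M) {w : ι → F} (hww : f w w = 0)
    (hw : UtIn H.herm M w) (hout : ∀ c : F, c ≠ 0 → c • w ∉ V0 F₀ P) :
    ∀ x, f x x = 0 → UtIn H.herm M x := by
  have hf := H.herm
  obtain ⟨θ, hθ⟩ : ∃ θ : F, σ θ ≠ θ := by
    by_contra hcon
    push Not at hcon
    exact hf.ne_refl (RingEquiv.ext hcon)
  have iso_iff : ∀ a ∈ V0 F₀ P, ∀ b ∈ V0 F₀ P, f (a + θ • b) (a + θ • b) = 0 → f a b = 0 := by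
    intro a ha b hb h
    simp only [u_add_left hf, u_add_right hf, u_smul_left hf, u_smul_right hf, H.alt a ha,
      H.alt b hb, H.swap ha hb] at h
    exact (mul_eq_zero.1 (show (σ θ - θ) * f a b = 0 by linear_combination h)).resolve_left
      (sub_ne_zero.2 hθ)
  obtain ⟨a, ha, b, hb, rfl⟩ := H.combination hθ w
  have hab := iso_iff a ha b hb hww
  have hab2 : ∀ t : F, a ≠ t • b := by
    intro t e
    subst e
    rcases eq_or_ne (t + θ) 0 with h | h
    · refine hout 1 one_ne_zero ?_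
      rw [← add_smul, h, zero_smul, smul_zero]
      exact (V0 F₀ P).zero_mem
    · refine hout (t + θ)⁻¹ (inv_ne_zero h) ?_
      rw [← add_smul, inv_smul_smul₀ h]
      exact hb
  have hba : ∀ t : F, b ≠ t • a := fun t e => by
    rcases eq_or_ne t 0 with rfl | ht
    · refine hout 1 one_ne_zero ?_
      rw [e, zero_smul, smul_zero, add_zero, one_smul]
      exact ha
    · exact hab2 t⁻¹ (by rw [e, inv_smul_smul₀ ht])
  have trans : ∀ p q p' : ι → F, p ∈ V0 F₀ P → q ∈ V0 F₀ P → p' ∈ V0 F₀ P → f p q = 0 →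
      f p' q = 0 → (∀ t : F, p ≠ t • q) → (∀ t : F, p' ≠ t • q) →
      (UtIn hf M (p + θ • q) → UtIn hf M (p' + θ • q)) ∧
      (UtIn hf M (q + θ • p) → UtIn hf M (q + θ • p')) := by
    intro p q p' hp hq hp' h h' i i'
    obtain ⟨g, gM, gi, e1, e2⟩ := exists_pair_move4 H hR hp hp' hq h h' i i'
    constructor
    · intro hu
      have := hu.conj hf (by simp [u_add_left hf, u_add_right hf, u_smul_left hf, u_smul_right hf,
        H.alt p hp, H.alt q hq, h, u_symm_zero hf h]) gM gi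
      rwa [mulVec_add, mulVec_smul, e1, e2] at this
    · intro hu
      have := hu.conj hf (by simp [u_add_left hf, u_add_right hf, u_smul_left hf, u_smul_right hf,
        H.alt p hp, H.alt q hq, h, u_symm_zero hf h]) gM gi
      rwa [mulVec_add, mulVec_smul, e1, e2] at this
  have all : ∀ a' ∈ V0 F₀ P, ∀ b' ∈ V0 F₀ P, f a' b' = 0 → (∀ t : F, a' ≠ t • b') →
      (∀ t : F, b' ≠ t • a') → UtIn hf M (a' + θ • b') := by
    intro a' ha' b' hb' h1 h2 h3
    obtain ⟨d, hd, -, hd1⟩ := H.exists_dual2 ha hb hab2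
    obtain ⟨d', hd', -, hd1'⟩ := H.exists_dual2 ha' hb' h2
    obtain ⟨c, hc, ca, ca', c1, c2⟩ : ∃ c ∈ V0 F₀ P, f c a = 0 ∧ f c a' = 0 ∧ (∀ t : F, c ≠ t • a) ∧
        ∀ t : F, c ≠ t • a' := by
      have ha0 : a ≠ 0 := fun h => hab2 0 (by rw [h, zero_smul])
      have ha'0 : a' ≠ 0 := fun h => h2 0 (by rw [h, zero_smul])
      by_cases hdep : ∃ t : F, a' = t • a
      · obtain ⟨t, ht⟩ := hdep
        obtain ⟨c, hc, hc0, ca, cd⟩ := exists_perp2 H hn ha hd
        have ca' : f c a' = 0 := by rw [ht, u_smul_right hf, ca, mul_zero]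
        have c1 : ∀ s : F, c ≠ s • a := fun s e => by
          rw [e, u_smul_left hf, H.swap hd ha, mul_neg, neg_eq_zero, mul_eq_zero] at cd
          rcases cd with h | h
          · exact hc0 (by rw [e, h, zero_smul])
          · rw [h, mul_zero] at hd1; exact zero_ne_one hd1
        exact ⟨c, hc, ca, ca', c1, fun s e => c1 (s * t) (by rw [e, ht, smul_smul])⟩
      push Not at hdep
      by_cases h0 : f a a' = 0
      · refine ⟨a + a', (V0 F₀ P).add_mem ha ha', by rw [u_add_left hf, H.alt a ha, u_symm_zero hf h0, add_zero],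
          by rw [u_add_left hf, H.alt a' ha', h0, add_zero], fun t e => hdep (t - 1) ?_, fun t e => ?_⟩
        · rw [sub_smul, one_smul, ← e, add_sub_cancel_left]
        · have e' : a = (t - 1) • a' := by rw [sub_smul, one_smul, ← e, add_sub_cancel_right]
          rcases eq_or_ne (t - 1) 0 with h | h
          · exact ha0 (by rw [e', h, zero_smul])
          · exact hdep (t - 1)⁻¹ (by rw [e', inv_smul_smul₀ h])
      · obtain ⟨c, hc, hc0, ca, ca'⟩ := exists_perp2 H hn ha ha'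
        refine ⟨c, hc, ca, ca', fun t e => hc0 ?_, fun t e => hc0 ?_⟩
        · rw [e, u_smul_left hf, mul_eq_zero] at ca'
          rw [e, ca'.resolve_right h0, zero_smul]
        · rw [e, u_smul_left hf, mul_eq_zero] at ca
          rw [e, ca.resolve_right fun h => h0 (u_symm_zero hf h), zero_smul]
    have a_c : ∀ t : F, a ≠ t • c := fun t e => by
      rcases eq_or_ne t 0 with rfl | ht
      · exact hab2 0 (by rw [e, zero_smul, zero_smul])
      · exact c1 t⁻¹ (by rw [e, inv_smul_smul₀ ht])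
    have a'_c : ∀ t : F, a' ≠ t • c := fun t e => by
      rcases eq_or_ne t 0 with rfl | ht
      · exact h2 0 (by rw [e, zero_smul, zero_smul])
      · exact c2 t⁻¹ (by rw [e, inv_smul_smul₀ ht])
    have s1 : UtIn hf M (a + θ • c) :=
      (trans b a c hb ha hc (u_symm_zero hf hab) ca hba c1).2 hw
    have s2 : UtIn hf M (a' + θ • c) :=
      (trans a c a' ha hc ha' (u_symm_zero hf ca) (u_symm_zero hf ca') a_c a'_c).1 s1
    exact (trans c a' b' hc ha' hb' ca' (u_symm_zero hf h1) c2 h3).2 s2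
  intro x hx
  obtain ⟨a', ha', b', hb', rfl⟩ := H.combination hθ x
  by_cases h2 : ∃ t : F, a' = t • b'
  · obtain ⟨t, rfl⟩ := h2
    rw [← add_smul]
    exact (hR b' hb').smul hf (H.alt b' hb') _
  by_cases h3 : ∃ t : F, b' = t • a'
  · obtain ⟨t, rfl⟩ := h3
    rw [smul_smul, ← one_smul F a', smul_smul, mul_one, ← add_smul]
    exact (hR a' ha').smul hf (H.alt a' ha') _
  push Not at h2 h3
  exact all a' ha' b' hb' (iso_iff a' ha' b' hb' hx) h2 h3

end HAlt

theorem symp_main {ι : Type} [Fintype ι] [DecidableEq ι] {F : Type*} [Field F]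
    (hn : 3 ≤ Fintype.card ι) {σ : F ≃+* F} {f : (ι → F) → (ι → F) → F} {F₀ : Subfield F} {ζ : F}
    {P : GL ι F} (H : HAlt σ f F₀ ζ P)
    (G : Subgroup (GL ι F)) (hG : G = isoGrp f ⊓ Geo.specialLinear ι F)
    (hgen : ∀ M : Subgroup (GL ι F), (∀ v, f v v = 0 → UtIn H.herm M v) → G ≤ M) :
    Geo.IsMaximalIn G (Geo.subfieldSubgroup F₀ P ⊓ G) := by
  haveI : Nonempty ι := Fintype.card_pos_iff.1 (by omega)
  have hf := H.herm
  set S := Geo.subfieldSubgroup F₀ P ⊓ G with hS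
  obtain ⟨θ, hθ⟩ : ∃ θ : F, σ θ ≠ θ := by
    by_contra hcon
    push Not at hcon
    exact hf.ne_refl (RingEquiv.ext hcon)
  have hRS : H.RatUt S := by
    intro v hv l hl
    refine ⟨mem_subfieldSubgroup_of F₀ P one_ne_zero fun x hx => ?_,
      hG ▸ ⟨ut_mem_iso hf (H.alt v hv) hl, ut_mem_sl hf v l⟩⟩
    rw [inv_one, one_smul, ut_mulVec hf (H.alt v hv)]
    refine (V0 F₀ P).add_mem hx (mem_V0_smul F₀ P ((H.fixed _).1 ?_) hv)
    rw [map_mul, hl, (H.skew hx hv).2]
    ring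
  have hne0 : ∀ j : ι, (P : Matrix ι ι F) *ᵥ Pi.single j (1 : F) ≠ 0 := fun j h0 => by
    have := inv_mulVec_mulVec P (Pi.single j (1 : F))
    rw [h0, mulVec_zero] at this
    simpa using congrFun this j
  have partner : ∀ a ∈ V0 F₀ P, a ≠ 0 → ∃ z ∈ V0 F₀ P, ζ * f z a = 1 := by
    intro a ha ha0
    obtain ⟨z, hz, hza⟩ := H.exists_ne ha0
    exact ⟨(ζ * f z a)⁻¹ • z, mem_V0_smul F₀ P (F₀.inv_mem (H.rat z hz a ha)) hz,
      by rw [u_smul_left hf, mul_left_comm, inv_mul_cancel₀ (mul_ne_zero H.zeta_ne hza)]⟩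
  refine ⟨lt_of_le_of_ne inf_le_right fun hEq => ?_, fun M hSM hMG => ?_⟩
  · obtain ⟨j⟩ := ‹Nonempty ι›
    set a := (P : Matrix ι ι F) *ᵥ Pi.single j (1 : F) with hadef
    have ha : a ∈ V0 F₀ P := col_mem F₀ P j
    have ha0 : a ≠ 0 := hne0 j
    obtain ⟨d, hd, hda⟩ := partner a ha ha0
    obtain ⟨b, hb, hb0, ba, bd⟩ := HAlt.exists_perp2 H hn ha hd
    have hind : ∀ t : F, b ≠ t • a := fun t e => by
      rw [e, u_smul_left hf, H.swap hd ha, mul_neg, neg_eq_zero, mul_eq_zero] at bd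
      rcases bd with h | h
      · exact hb0 (by rw [e, h, zero_smul])
      · rw [h, mul_zero] at hda; exact zero_ne_one hda
    obtain ⟨b', hb', b'a, b'b⟩ := H.exists_dual2 hb ha hind
    obtain ⟨v, hv, hv0, va, vb⟩ := HAlt.exists_perp2 H hn ha hb
    have ab : f a b = 0 := u_symm_zero hf ba
    set w := a + θ • b with hw
    have hww : f w w = 0 := by
      simp only [hw, u_add_left hf, u_add_right hf, u_smul_left hf, u_smul_right hf, H.alt a ha,
        H.alt b hb, ab, ba]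
      ring
    obtain ⟨l, hl0, hl⟩ := exists_skew_ne_zero hf
    have hmem : ut hf w l ∈ S :=
      hEq.symm ▸ (hG ▸ ⟨ut_mem_iso hf hww hl, ut_mem_sl hf w l⟩ : ut hf w l ∈ G)
    obtain ⟨c, hc, hcv⟩ := scalar_of_mem F₀ P hmem.1
    have e1 := hcv v hv
    rw [ut_mulVec hf hww, hw, u_add_right hf, u_smul_right hf, va, vb, mul_zero, add_zero,
      mul_zero, zero_smul, add_zero] at e1
    have hcF : c⁻¹ ∈ F₀ := by
      obtain ⟨z, hz, hz1⟩ := partner v hv hv0
      have h1 := H.rat z hz _ e1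
      rw [u_smul_right hf] at h1
      have h2 : σ c⁻¹ ∈ F₀ := by
        rwa [mul_left_comm, hz1, mul_one] at h1
      have := (H.fixed _).2 h2
      rw [u_inv hf] at this
      rw [this]
      exact h2
    have hTV : ∀ x ∈ V0 F₀ P, (ut hf w l : Matrix ι ι F) *ᵥ x ∈ V0 F₀ P := fun x hx => by
      have := mem_V0_smul F₀ P (F₀.inv_mem hcF) (hcv x hx)
      rwa [inv_inv, smul_inv_smul₀ hc] at this
    have h2 := (V0 F₀ P).sub_mem (hTV b' hb') hb'
    rw [ut_mulVec hf hww, add_sub_cancel_left, hw, u_add_right hf, u_smul_right hf, b'a,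
      zero_add] at h2
    -- pair against duals
    obtain ⟨a', ha', a'b, a'a⟩ := H.exists_dual2 ha hb (fun t e => by
      rcases eq_or_ne t 0 with rfl | ht
      · exact ha0 (by rw [e, zero_smul])
      · exact hind t⁻¹ (by rw [e, inv_smul_smul₀ ht]))
    set t := l * (σ θ * f b' b) with ht
    have ht0 : t ≠ 0 := by
      refine mul_ne_zero hl0 (mul_ne_zero ?_ ?_)
      · intro h0; exact hθ (by rw [h0, (map_eq_zero_iff σ σ.injective).1 h0])
      · intro h0; rw [h0, mul_zero] at b'b; exact zero_ne_one b'b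
    have r1 := H.rat a' ha' _ h2
    have r2 := H.rat b' hb' _ h2
    rw [u_smul_right hf, u_add_right hf, u_smul_right hf, a'b, mul_zero, add_zero, mul_left_comm,
      a'a, mul_one] at r1
    rw [u_smul_right hf, u_add_right hf, u_smul_right hf, b'a, zero_add, mul_left_comm,
      mul_left_comm ζ, b'b, mul_one] at r2
    have r3 := F₀.div_mem r2 r1
    rw [mul_div_cancel_left₀ _ (fun h => ht0 ((map_eq_zero_iff σ σ.injective).1 h))] at r3
    exact hθ (σ.injective ((H.fixed _).2 r3))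
  by_cases hM : M ≤ S
  · exact Or.inl (le_antisymm hM hSM)
  refine Or.inr (le_antisymm hMG (hgen M ?_))
  obtain ⟨g, hgM, hgS⟩ := SetLike.not_le_iff_exists.1 hM
  have hgi : g ∈ isoGrp f := (hG ▸ hMG hgM).1
  have hR : H.RatUt M := fun v hv l hl => hSM (hRS v hv l hl)
  obtain ⟨v, hv, hout⟩ : ∃ v ∈ V0 F₀ P,
      ∀ c : F, c ≠ 0 → c • ((g : Matrix ι ι F) *ᵥ v) ∉ V0 F₀ P := by
    by_contra hcon
    push Not at hcon
    apply hgS
    refine ⟨?_, hMG hgM⟩
    obtain ⟨j⟩ := ‹Nonempty ι›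
    set v0 := (P : Matrix ι ι F) *ᵥ Pi.single j (1 : F)
    have hv0m : v0 ∈ V0 F₀ P := col_mem F₀ P j
    obtain ⟨c0, hc0, hc0v⟩ := hcon v0 hv0m
    refine mem_subfieldSubgroup_of F₀ P (inv_ne_zero hc0) ?_
    simp only [inv_inv]
    have near : ∀ v ∈ V0 F₀ P, f v0 v ≠ 0 → c0 • ((g : Matrix ι ι F) *ᵥ v) ∈ V0 F₀ P := by
      intro v hv hh
      obtain ⟨c, hc, hcv⟩ := hcon v hv
      have h1 := H.rat _ hc0v _ hcv
      rw [u_smul_left hf, u_smul_right hf, mem_isoGrp.1 hgi] at h1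
      have h2 : c0 * σ c ∈ F₀ := by
        have := F₀.div_mem h1 (H.rat v0 hv0m v hv)
        convert this using 1
        field_simp [H.zeta_ne]
      have h3 : c0 * σ c0 ∈ F₀ := (H.fixed _).1 (by rw [map_mul, u_inv hf]; ring)
      have h4 := F₀.div_mem h3 h2
      have hsc : σ c ≠ 0 := fun h => hc ((map_eq_zero_iff σ σ.injective).1 h)
      rw [mul_div_mul_left _ _ hc0] at h4
      have h5 : σ c0 / σ c = c0 / c := by
        have := (H.fixed _).2 h4
        rw [map_div₀, u_inv hf, u_inv hf] at this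
        exact this.symm
      rw [h5] at h4
      have := mem_V0_smul F₀ P h4 hcv
      rwa [smul_smul, div_mul_cancel₀ c0 hc] at this
    intro v hv
    by_cases hh : f v0 v = 0
    · obtain ⟨z, hz, hz1⟩ := partner v0 hv0m (hne0 j)
      have hzne : f v0 z ≠ 0 := fun h => by
        rw [u_symm_zero hf h, mul_zero] at hz1; exact zero_ne_one hz1
      have h1 := near _ ((V0 F₀ P).add_mem hv hz) (by rwa [u_add_right hf, hh, zero_add])
      have h2 := (V0 F₀ P).sub_mem h1 (near z hz hzne)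
      rwa [← smul_sub, ← mulVec_sub, add_sub_cancel_right] at h2
    · exact near v hv hh
  have hvv := H.alt v hv
  refine HAlt.utIn_all4 H hn hR (w := (g : Matrix ι ι F) *ᵥ v) ?_ ((hR v hv).conj hf hvv hgM hgi) hout
  rw [mem_isoGrp.1 hgi, hvv]

end

/-- Clause (7). -/
theorem symp_maximal {F : Type*} [Field F] [Fintype F] {n : ℕ} (hn : 4 ≤ n) (q : ℕ) (hF : Fintype.card F = q ^ 2)
    (F₀ : Subfield F) (P : GL (Fin n) F) (ζ : F) (hcard : Fintype.card F = Nat.card F₀ ^ 2) (hζ0 : ζ ≠ 0)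
    (hζ : ζ + ζ ^ q = 0) (hP : Cfsg.Geo.IsFormRationalStructure (Cfsg.hermForm n F q) F₀ ζ P)
    (halt : ∀ u : Fin n → F, (∀ i, u i ∈ F₀) → Cfsg.hermForm n F q (Matrix.mulVec (P : Matrix (Fin n) (Fin n) F) u)
      (Matrix.mulVec (P : Matrix (Fin n) (Fin n) F) u) = 0) :
    Cfsg.Geo.IsMaximalIn (Cfsg.GU n F q ⊓ Cfsg.Geo.specialLinear (Fin n) F)
      (Cfsg.Geo.subfieldSubgroup F₀ P ⊓ (Cfsg.GU n F q ⊓ Cfsg.Geo.specialLinear (Fin n) F)) := by
  obtain ⟨σ, hσ, hf⟩ := isUnitaryForm_hermForm (n := n) hF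
  have hq : Nat.card F₀ = q := Nat.pow_left_injective two_ne_zero (hcard.symm.trans hF)
  have hfix : F₀ = Unitary.fixK hF := by
    refine SetLike.coe_injective (Set.eq_of_subset_of_ncard_le (fun x hx => ?_) ?_ (Set.toFinite _))
    · rw [SetLike.mem_coe, Unitary.mem_fixK]
      letI := Fintype.ofFinite F₀
      have := FiniteField.pow_card (⟨x, hx⟩ : F₀)
      rw [← Nat.card_eq_fintype_card, hq] at this
      exact congrArg Subtype.val this
    · rw [← Nat.card_coe_set_eq, ← Nat.card_coe_set_eq]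
      exact ((Unitary.card_fixK hF).le.trans hq.ge)
  have H : HAlt σ (Cfsg.hermForm n F q) F₀ ζ P :=
    { herm := hf
      fixed := fun x => by rw [hσ, hfix, Unitary.mem_fixK]
      zeta := by rw [hσ]; linear_combination hζ
      zeta_ne := hζ0
      rat := fun u hu v hv => by
        have := hP _ _ hu hv
        rwa [mulVec_inv_mulVec, mulVec_inv_mulVec] at this
      alt := fun u hu => by
        have := halt _ hu
        rwa [mulVec_inv_mulVec] at this }
  exact symp_main (by simp; omega) H _ rfl fun M h => su_le_of_ut hF hn hσ hf h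

end Cfsg.Agent.H12.SUFour
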