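import Cfsg.Agent.S5653

/-!
The clause on totally isotropic subspaces in SU_n(q), n ≥ 4.
-/

set_option autoImplicit false

namespace Cfsg.Agent.H12.SUFour

open Cfsg.Agent.H95 Cfsg.Agent.Symplectic
open scoped MatrixGroups

/-- Clause (1). -/
theorem ti_maximal {F : Type*} [Field F] [Fintype F] {n : ℕ} (hn : 4 ≤ n) (q : ℕ) (hF : Fintype.card F = q ^ 2)
    (W : Submodule F (Fin n → F)) (hW0 : W ≠ ⊥)
    (hW : Cfsg.Geo.IsTotallySingularFor (Cfsg.hermForm n F q) W) :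
    Cfsg.Geo.IsMaximalIn (Cfsg.GU n F q ⊓ Cfsg.Geo.specialLinear (Fin n) F)
      (Cfsg.Geo.subspaceStabilizer W ⊓ (Cfsg.GU n F q ⊓ Cfsg.Geo.specialLinear (Fin n) F)) := by
  obtain ⟨σ, hσ, hf⟩ := isUnitaryForm_hermForm (n := n) hF
  exact S5653.main hF hf _ rfl (fun M h => su_le_of_ut hF hn hσ hf h) W hW0 hW

end Cfsg.Agent.H12.SUFour
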